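/-
A centralizer of members seen through a quotient with a class of 3-transpositions: induced automorphisms,
rigidity, and the outer automorphisms when there are few.
-/
import Cfsg.Agent.Lib.Spor.Tri.LevelData
import Mathlib.GroupTheory.Index

set_option autoImplicit false

namespace CfsgLib.Spor.Tri.U24

open CfsgLib.Spor.Tri CfsgLib.Spor.Tri.Relations CfsgLib.Spor.Tri.Level

variable {G : Type*} [Group G] [Finite G] {D : Set G}

omit [Finite G] in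
theorem mem_cent_one {a g : G} : g ∈ Subgroup.centralizer ({a} : Set G) ↔ Commute g a := by
  rw [Subgroup.mem_centralizer_singleton_iff]; rfl

/-- A map that is an automorphism on a subgroup. -/
def AutOn (K : Subgroup G) (φ : G → G) : Prop :=
  (∀ x ∈ K, φ x ∈ K) ∧ (∀ x ∈ K, ∀ y ∈ K, φ (x * y) = φ x * φ y) ∧ ∀ x ∈ K, φ x = 1 → x = 1

omit [Finite G] in
theorem AutOn.map_one {K : Subgroup G} {φ : G → G} (hφ : AutOn K φ) : φ 1 = 1 := by
  have := hφ.2.1 1 (one_mem K) 1 (one_mem K)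
  rwa [mul_one, left_eq_mul] at this

omit [Finite G] in
theorem AutOn.map_inv {K : Subgroup G} {φ : G → G} (hφ : AutOn K φ) {x : G} (hx : x ∈ K) : φ x⁻¹ = (φ x)⁻¹ := by
  have := hφ.2.1 x hx x⁻¹ (inv_mem hx)
  rw [mul_inv_cancel, hφ.map_one] at this
  exact eq_inv_of_mul_eq_one_right this.symm

omit [Finite G] in
theorem AutOn.inj {K : Subgroup G} {φ : G → G} (hφ : AutOn K φ) : Set.InjOn φ K := fun x hx y hy e => by
  have := hφ.2.2 (x * y⁻¹) (mul_mem hx (inv_mem hy))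
    (by rw [hφ.2.1 x hx _ (inv_mem hy), hφ.map_inv hy, e, mul_inv_cancel])
  exact mul_inv_eq_one.1 this

/-- The quotient of `K` by `Z`, with `E` going one to one onto the class `D1`. -/
structure Quo (K : Subgroup G) (E Z : Set G) {X : Type*} [Group X] (D1 : Set X) (π : G → X) : Prop where
  mul : ∀ x ∈ K, ∀ y ∈ K, π (x * y) = π x * π y
  surj : ∀ q, ∃ x ∈ K, π x = q
  memK : ∀ x ∈ E, x ∈ K
  mem : ∀ x ∈ E, π x ∈ D1
  onto : ∀ q ∈ D1, ∃ x ∈ E, π x = q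
  inj : ∀ x ∈ E, ∀ y ∈ E, π x = π y → x = y
  stable : ∀ g ∈ K, ∀ x ∈ E, g * x * g⁻¹ ∈ E
  ker : ∀ x ∈ K, π x = 1 → x ∈ Z
  zmem : ∀ z ∈ Z, z ∈ K
  zker : ∀ z ∈ Z, π z = 1

variable {K : Subgroup G} {E Z : Set G} {X : Type*} [Group X] {D1 : Set X} {π : G → X} (Q : Quo K E Z D1 π)
include Q

omit [Finite G] in
theorem Quo.one : π 1 = 1 := by
  have := Q.mul 1 (one_mem K) 1 (one_mem K)
  rwa [mul_one, left_eq_mul] at this

omit [Finite G] in
theorem Quo.map_inv {x : G} (hx : x ∈ K) : π x⁻¹ = (π x)⁻¹ := by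
  have := Q.mul x hx x⁻¹ (inv_mem hx)
  rw [mul_inv_cancel, Q.one] at this
  exact eq_inv_of_mul_eq_one_right this.symm

omit [Finite G] in
theorem Quo.map_conj {g x : G} (hg : g ∈ K) (hx : x ∈ K) : π (g * x * g⁻¹) = π g * π x * (π g)⁻¹ := by
  rw [Q.mul _ (mul_mem hg hx) _ (inv_mem hg), Q.mul g hg x hx, Q.map_inv hg]

theorem Quo.finite : Finite X := Finite.of_surjective π fun q => (Q.surj q).imp fun _ h => h.2

omit [Finite G] in
/-- Everything is a product of `E` and `Z`. -/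
theorem Quo.gen (hgen : Subgroup.closure D1 = ⊤) : K ≤ Subgroup.closure (E ∪ Z) := by
  intro x hx
  have key : ∀ q ∈ Subgroup.closure D1, ∃ y ∈ K ⊓ Subgroup.closure (E ∪ Z), π y = q := by
    intro q hq
    induction hq using Subgroup.closure_induction with
    | mem q hq =>
      obtain ⟨y, hy, e⟩ := Q.onto q hq
      exact ⟨y, ⟨Q.memK y hy, Subgroup.subset_closure (Or.inl hy)⟩, e⟩
    | one => exact ⟨1, one_mem _, Q.one⟩
    | mul p q _ _ hp hq =>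
      obtain ⟨y, hy, rfl⟩ := hp
      obtain ⟨z, hz, rfl⟩ := hq
      exact ⟨y * z, mul_mem hy hz, Q.mul y hy.1 z hz.1⟩
    | inv p _ hp =>
      obtain ⟨y, hy, rfl⟩ := hp
      exact ⟨y⁻¹, inv_mem hy, Q.map_inv hy.1⟩
  obtain ⟨y, hy, e⟩ := key (π x) (by rw [hgen]; exact Subgroup.mem_top _)
  have hz : y⁻¹ * x ∈ Z := Q.ker _ (mul_mem (inv_mem hy.1) hx) (by
    rw [Q.mul _ (inv_mem hy.1) _ hx, Q.map_inv hy.1, e, inv_mul_cancel])
  have := mul_mem hy.2 (Subgroup.subset_closure (Or.inr hz) : y⁻¹ * x ∈ Subgroup.closure (E ∪ Z))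
  rwa [mul_inv_cancel_left] at this

omit [Finite G] in
theorem Quo.trans_on (htr : ∀ a ∈ D1, ∀ b ∈ D1, ∃ g : X, g * a * g⁻¹ = b) {x y : G} (hx : x ∈ E) (hy : y ∈ E) :
    ∃ g ∈ K, g * x * g⁻¹ = y := by
  obtain ⟨q, hq⟩ := htr _ (Q.mem x hx) _ (Q.mem y hy)
  obtain ⟨g, hg, rfl⟩ := Q.surj q
  exact ⟨g, hg, Q.inj _ (Q.stable g hg x hx) _ hy (by rw [Q.map_conj hg (Q.memK x hx), hq])⟩

theorem Quo.commute_iff (h : Hyp D) (hE : E ⊆ D) (h1 : Hyp D1) {x y : G} (hx : x ∈ E) (hy : y ∈ E) :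
    Commute (π x) (π y) ↔ Commute x y := by
  refine ⟨fun r => ?_, fun r => ?_⟩
  · by_contra hn
    have h3 := congrArg π (h.cube (hE hx) (hE hy) hn)
    have h2 := (h1.commute_iff_sq (Q.mem x hx) (Q.mem y hy)).1 r
    rw [pow_succ, pow_two, Q.mul _ (mul_mem (mul_mem (Q.memK x hx) (Q.memK y hy))
      (mul_mem (Q.memK x hx) (Q.memK y hy))) _ (mul_mem (Q.memK x hx) (Q.memK y hy)),
      Q.mul _ (mul_mem (Q.memK x hx) (Q.memK y hy)) _ (mul_mem (Q.memK x hx) (Q.memK y hy)),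
      Q.mul _ (Q.memK x hx) _ (Q.memK y hy), ← pow_two, h2, one_mul, Q.one] at h3
    refine ne_of_not_commute hn (Q.inj x hx y hy ?_)
    rw [← inv_eq_of_mul_eq_one_right h3, h1.inv_eq (Q.mem x hx)]
  · show π x * π y = π y * π x
    rw [← Q.mul _ (Q.memK x hx) _ (Q.memK y hy), r.eq, Q.mul _ (Q.memK y hy) _ (Q.memK x hx)]

/-- An automorphism of `K` keeping `Z` acts on the quotient. -/
theorem Quo.induced {φ : G → G} (hφ : AutOn K φ) (hZ : ∀ z ∈ Z, φ z ∈ Z) :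
    ∃ Φ : MulAut X, ∀ x ∈ K, Φ (π x) = π (φ x) := by
  have wd : ∀ x ∈ K, ∀ y ∈ K, π x = π y → π (φ x) = π (φ y) := fun x hx y hy e => by
    have hz := Q.ker _ (mul_mem (inv_mem hx) hy) (by
      rw [Q.mul _ (inv_mem hx) _ hy, Q.map_inv hx, e, inv_mul_cancel])
    calc π (φ x) = π (φ x) * π (φ (x⁻¹ * y)) := by rw [Q.zker _ (hZ _ hz), mul_one]
      _ = π (φ y) := by
        rw [← Q.mul _ (hφ.1 x hx) _ (hφ.1 _ (Q.zmem _ hz)), ← hφ.2.1 x hx _ (Q.zmem _ hz), mul_inv_cancel_left]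
  choose sec hsec using Q.surj
  let f : X →* X :=
    { toFun := fun q => π (φ (sec q))
      map_one' := by
        rw [wd _ (hsec 1).1 1 (one_mem K) ((hsec 1).2.trans Q.one.symm), hφ.map_one, Q.one]
      map_mul' := fun p q => by
        rw [wd _ (hsec _).1 _ (mul_mem (hsec p).1 (hsec q).1)
          (by rw [Q.mul _ (hsec p).1 _ (hsec q).1, (hsec p).2, (hsec q).2, (hsec _).2]),
          hφ.2.1 _ (hsec p).1 _ (hsec q).1, Q.mul _ (hφ.1 _ (hsec p).1) _ (hφ.1 _ (hsec q).1)] }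
  have hinj : Function.Injective f := by
    refine (injective_iff_map_eq_one f).2 fun q hq => ?_
    have hz : φ (sec q) ∈ Z := Q.ker _ (hφ.1 _ (hsec q).1) hq
    have himg : φ '' Z = Z := by
      refine Set.eq_of_subset_of_ncard_le (Set.image_subset_iff.2 hZ) ?_ (Set.toFinite _)
      rw [Set.ncard_image_of_injOn (hφ.inj.mono Q.zmem)]
    obtain ⟨z, hzZ, ez⟩ := himg.symm ▸ hz
    rw [← (hsec q).2, ← hφ.inj (Q.zmem z hzZ) (hsec q).1 ez, Q.zker z hzZ]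
  haveI := Q.finite
  exact ⟨MulEquiv.ofBijective f ⟨hinj, (Finite.injective_iff_surjective).1 hinj⟩,
    fun x hx => wd _ (hsec _).1 x hx (hsec _).2⟩

/-- An automorphism fixing a member and its neighbours fixes all, or conjugates by the member. -/
theorem Quo.rig (h : Hyp D) (hE : E ⊆ D) {v k l m : ℕ} (L : Lev D1 v k l m) {φ : G → G} (hφ : AutOn K φ)
    (hZ : ∀ z ∈ Z, φ z ∈ Z) (hφE : ∀ x ∈ E, φ x ∈ E) {f : G} (hf : f ∈ E) (hff : φ f = f)
    (hfix : ∀ x ∈ E, x ∈ perp D f → φ x = x) :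
    (∀ x ∈ E, φ x = x) ∨ ∀ x ∈ E, φ x = f * x * f := by
  obtain ⟨Φ, hΦ⟩ := Q.induced hφ hZ
  have hD : ∀ q ∈ D1, Φ q ∈ D1 := fun q hq => by
    obtain ⟨x, hx, rfl⟩ := Q.onto q hq
    rw [hΦ x (Q.memK x hx)]; exact Q.mem _ (hφE x hx)
  have hp : ∀ q ∈ perp D1 (π f), Φ q = q := by
    rintro q ⟨hq, hne, hc⟩
    obtain ⟨x, hx, rfl⟩ := Q.onto q hq
    rw [hΦ x (Q.memK x hx), hfix x hx ⟨hE hx, fun e => hne (e ▸ rfl), (Q.commute_iff h hE L.hyp hf hx).1 hc⟩]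
  rcases L.rig _ (Q.mem f hf) Φ hD (by rw [hΦ f (Q.memK f hf), hff]) hp with e | e
  · refine Or.inl fun x hx => Q.inj _ (hφE x hx) _ hx ?_
    rw [← hΦ x (Q.memK x hx), e, MulAut.one_apply]
  · refine Or.inr fun x hx => ?_
    have hfx := Q.stable f (Q.memK f hf) x hx
    rw [h.inv_eq (hE hf)] at hfx
    refine Q.inj _ (hφE x hx) _ hfx ?_
    rw [← hΦ x (Q.memK x hx), e, MulAut.conj_apply, ← Q.map_conj (Q.memK f hf) (Q.memK x hx), h.inv_eq (hE hf)]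

/-- With at most two outer classes, two automorphisms not inner on `E` differ by an inner one on `E`. -/
theorem Quo.out (hc : Subgroup.center X = ⊥) (haut : Nat.card (MulAut X) ≤ 2 * Nat.card X) {φ ψ : G → G}
    (hφ : AutOn K φ) (hψ : AutOn K ψ) (hZφ : ∀ z ∈ Z, φ z ∈ Z) (hZψ : ∀ z ∈ Z, ψ z ∈ Z)
    (hφE : ∀ x ∈ E, φ x ∈ E) (hψE : ∀ x ∈ E, ψ x ∈ E) (nφ : ¬ ∃ c ∈ K, ∀ x ∈ E, φ x = c * x * c⁻¹)
    (nψ : ¬ ∃ c ∈ K, ∀ x ∈ E, ψ x = c * x * c⁻¹) : ∃ c ∈ K, ∀ x ∈ E, φ x = c * ψ x * c⁻¹ := by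
  obtain ⟨Φ, hΦ⟩ := Q.induced hφ hZφ
  obtain ⟨Ψ, hΨ⟩ := Q.induced hψ hZψ
  set R := (MulAut.conj : X →* MulAut X).range
  have hout : ∀ (χ : G → G) (Χ : MulAut X), (∀ x ∈ K, Χ (π x) = π (χ x)) → (∀ x ∈ E, χ x ∈ E) →
      (¬ ∃ c ∈ K, ∀ x ∈ E, χ x = c * x * c⁻¹) → Χ ∉ R := by
    rintro χ Χ hΧ hχE hn ⟨q, rfl⟩
    obtain ⟨c, hcK, rfl⟩ := Q.surj q
    refine hn ⟨c, hcK, fun x hx => Q.inj _ (hχE x hx) _ (Q.stable c hcK x hx) ?_⟩
    rw [← hΧ x (Q.memK x hx), MulAut.conj_apply, Q.map_conj hcK (Q.memK x hx)]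
  have h1 := hout φ Φ hΦ hφE nφ
  have h2 := hout ψ Ψ hΨ hψE nψ
  haveI := Q.finite
  haveI : Finite (MulAut X) := Finite.of_injective (fun e : MulAut X => (e : X → X)) DFunLike.coe_injective
  have hcard : Nat.card R = Nat.card X := Nat.card_congr (Equiv.ofBijective _
    ⟨(MulAut.conj : X →* MulAut X).rangeRestrict_injective_iff.2 ((injective_iff_map_eq_one _).2 fun u hu => by
      have : u ∈ Subgroup.center X := Subgroup.mem_center_iff.2 fun g => by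
        have := DFunLike.congr_fun hu g
        rw [MulAut.conj_apply, MulAut.one_apply, mul_inv_eq_iff_eq_mul] at this
        exact this.symm
      rwa [hc, Subgroup.mem_bot] at this), MonoidHom.rangeRestrict_surjective _⟩).symm
  have hmul := R.card_mul_index
  rw [hcard] at hmul
  have hidx : R.index = 2 := by
    have hne1 : R.index ≠ 1 := fun e => h1 (Subgroup.index_eq_one.1 e ▸ Subgroup.mem_top _)
    have hne0 : R.index ≠ 0 := Subgroup.index_ne_zero_of_finite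
    have hle : R.index ≤ 2 := Nat.le_of_mul_le_mul_left
      (by rw [hmul, Nat.mul_comm]; exact haut) Nat.card_pos
    omega
  have hmem : Φ * Ψ⁻¹ ∈ R := by
    rw [Subgroup.mul_mem_iff_of_index_two hidx, inv_mem_iff]
    exact ⟨fun r => absurd r h1, fun r => absurd r h2⟩
  obtain ⟨q, hq⟩ := hmem
  obtain ⟨c, hcK, rfl⟩ := Q.surj q
  refine ⟨c, hcK, fun x hx => Q.inj _ (hφE x hx) _ (Q.stable c hcK _ (hψE x hx)) ?_⟩
  rw [Q.map_conj hcK (Q.memK _ (hψE x hx)), ← hΦ x (Q.memK x hx), ← hΨ x (Q.memK x hx), ← MulAut.conj_apply, hq,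
    MulAut.mul_apply, MulAut.inv_apply_self]

omit [Finite G] in
/-- Conjugates of the quotient. -/
theorem Quo.conj (g : G) {K' : Subgroup G} {E' Z' : Set G} (hK : ∀ x, x ∈ K' ↔ g⁻¹ * x * g ∈ K)
    (hE : ∀ x, x ∈ E' ↔ g⁻¹ * x * g ∈ E) (hZ : ∀ x, x ∈ Z' ↔ g⁻¹ * x * g ∈ Z) :
    Quo K' E' Z' D1 (fun x => π (g⁻¹ * x * g)) := by
  have e : ∀ y : G, g⁻¹ * (g * y * g⁻¹) * g = y := fun y => by group
  refine ⟨fun x hx y hy => ?_, fun q => ?_, fun x hx => (hK x).2 (Q.memK _ ((hE x).1 hx)),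
    fun x hx => Q.mem _ ((hE x).1 hx), fun q hq => ?_, fun x hx y hy r => ?_, fun u hu x hx => ?_,
    fun x hx r => (hZ x).2 (Q.ker _ ((hK x).1 hx) r), fun z hz => (hK z).2 (Q.zmem _ ((hZ z).1 hz)),
    fun z hz => Q.zker _ ((hZ z).1 hz)⟩
  · show π _ = _
    rw [show g⁻¹ * (x * y) * g = g⁻¹ * x * g * (g⁻¹ * y * g) by group]
    exact Q.mul _ ((hK x).1 hx) _ ((hK y).1 hy)
  · obtain ⟨y, hy, rfl⟩ := Q.surj q
    exact ⟨g * y * g⁻¹, (hK _).2 (by rwa [e]), by show π _ = _; rw [e]⟩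
  · obtain ⟨y, hy, rfl⟩ := Q.onto q hq
    exact ⟨g * y * g⁻¹, (hE _).2 (by rwa [e]), by show π _ = _; rw [e]⟩
  · have := Q.inj _ ((hE x).1 hx) _ ((hE y).1 hy) r
    exact mul_left_cancel (mul_right_cancel this)
  · refine (hE _).2 ?_
    have := Q.stable _ ((hK u).1 hu) _ ((hE x).1 hx)
    rwa [show g⁻¹ * u * g * (g⁻¹ * x * g) * (g⁻¹ * u * g)⁻¹ = g⁻¹ * (u * x * u⁻¹) * g by group] at this

end CfsgLib.Spor.Tri.U24
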