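/-
The quotients of the centralizers of a member and of a commuting pair in type M(24).
-/
import Cfsg.Agent.Lib.Spor.Tri.M24Unique.Quo
import Cfsg.Agent.Lib.Spor.Tri.LineTypes
import Cfsg.Agent.Lib.Spor.Tri.LevelOctads
import Cfsg.Agent.Lib.Spor.Tri.PairM24Cent

set_option autoImplicit false

namespace CfsgLib.Spor.Tri.U24

open CfsgLib.Spor.Tri CfsgLib.Spor.Tri.Relations CfsgLib.Spor.Tri.Level

variable {G : Type*} [Group G] [Finite G] {D : Set G}

/-- The hypotheses on a group of type M(24). -/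
structure Sys (D : Set G) : Prop where
  hyp : Hyp D
  prim : Cfsg.IsPrimitiveUnderConj D
  type : Cfsg.IsOfTypeM24 G D
  lev : Lev D 306936 31671 3510 3240
  data : Data24 D

theorem sys_of (h : Hyp D) (hprim : Cfsg.IsPrimitiveUnderConj D) (h24 : Cfsg.IsOfTypeM24 G D) : Sys D :=
  ⟨h, hprim, h24, (lev24 h hprim h24).1, data24 h hprim h24⟩

theorem perp_conj_mem (h : Hyp D) {d g x : G} (hg : Commute g d) (hx : x ∈ perp D d) : g * x * g⁻¹ ∈ perp D d := by
  have e := conj_eq_of_commute hg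
  refine ⟨h.conj g x hx.1, fun r => hx.2.1 ?_, ?_⟩
  · exact mul_left_cancel (mul_right_cancel (r.trans e.symm))
  · have := (Commute.conj_iff g).2 hx.2.2
    rwa [e] at this

/-- The quotient of a centralizer by its centre. -/
theorem loc_quo (h : Hyp D) {d : G} (hnc : NC D d)
    (hzl : ∀ z ∈ Subgroup.center ↥(loc D d), (z : G) = 1 ∨ (z : G) = d)
    (hcent : Subgroup.centralizer ({d} : Set G) ≤ loc D d) :
    ∃ π : G → ↥(loc D d) ⧸ Subgroup.center ↥(loc D d),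
      Quo (Subgroup.centralizer ({d} : Set G)) (perp D d) {1, d} (img D d) π ∧
      ∀ y (hy : y ∈ perp D d), π y = bar hy := by
  classical
  let π : G → ↥(loc D d) ⧸ Subgroup.center ↥(loc D d) := fun g =>
    if hg : g ∈ Subgroup.centralizer ({d} : Set G) then QuotientGroup.mk ⟨g, hcent hg⟩ else 1
  have hπ : ∀ {g} (hg : g ∈ Subgroup.centralizer ({d} : Set G)), π g = QuotientGroup.mk ⟨g, hcent hg⟩ :=
    fun hg => dif_pos hg
  have hdd : d ∈ Subgroup.centralizer ({d} : Set G) := mem_cent_one.2 (Commute.refl d)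
  have hP : ∀ {y}, y ∈ perp D d → y ∈ Subgroup.centralizer ({d} : Set G) :=
    fun hy => mem_cent_one.2 hy.2.2.symm
  have hbar : ∀ y (hy : y ∈ perp D d), π y = bar hy := fun y hy => hπ (hP hy)
  have hd1 : π d = 1 := by
    rw [hπ hdd, QuotientGroup.eq_one_iff, Subgroup.mem_center_iff]
    exact fun g => Subtype.ext (commute_loc g.2).eq.symm
  refine ⟨π, ⟨fun x hx y hy => ?_, fun q => ?_, fun x hx => hP hx, fun x hx => ?_, fun q hq => ?_,
    fun x hx y hy e => ?_, fun g hg x hx => perp_conj_mem h (mem_cent_one.1 hg) hx, fun x hx e => ?_,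
    fun z hz => ?_, fun z hz => ?_⟩, hbar⟩
  · rw [hπ (mul_mem hx hy), hπ hx, hπ hy]; rfl
  · obtain ⟨x, rfl⟩ := QuotientGroup.mk_surjective q
    have hx : (x : G) ∈ Subgroup.centralizer ({d} : Set G) := mem_cent_one.2 (commute_loc x.2).symm
    exact ⟨x, hx, hπ hx⟩
  · rw [hbar x hx]; exact bar_mem hx
  · obtain ⟨y, hy, rfl⟩ := exists_bar hq
    exact ⟨y, hy, hbar y hy⟩
  · rw [hbar x hx, hbar y hy] at e
    exact (bar_inj h hnc hx hy).1 e
  · rw [hπ hx, QuotientGroup.eq_one_iff] at e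
    rcases hzl _ e with r | r
    · exact Or.inl r
    · exact Or.inr r
  · rcases hz with rfl | rfl
    · exact one_mem _
    · exact hdd
  · rcases hz with rfl | rfl
    · rw [hπ (one_mem _)]; rfl
    · exact hd1

variable {d : G} (S : Sys D)
include S

theorem Sys.pt_quo (W : Loc24 D d) {a : G} (ha : a ∈ D) :
    ∃ π : G → ↥(loc D d) ⧸ Subgroup.center ↥(loc D d),
      Quo (Subgroup.centralizer ({a} : Set G)) (perp D a) {1, a} (img D d) π := by
  obtain ⟨π, Q, -⟩ := loc_quo S.hyp W.nc W.zl (S.lev.cent d W.mem)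
  obtain ⟨g, rfl⟩ := S.hyp.transitive d W.mem a ha
  refine ⟨_, Q.conj g (fun x => ?_) (fun x => ?_) fun x => ?_⟩
  · rw [mem_cent_one, mem_cent_one, ← Commute.conj_iff g (a := g⁻¹ * x * g),
      show g * (g⁻¹ * x * g) * g⁻¹ = x by group]
  · rw [perp_conj S.hyp]
    refine ⟨?_, fun r => ⟨_, r, by group⟩⟩
    rintro ⟨y, hy, rfl⟩
    rwa [show g⁻¹ * (g * y * g⁻¹) * g = y by group]
  · simp only [Set.mem_insert_iff, Set.mem_singleton_iff]
    constructor
    · rintro (rfl | rfl)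
      · exact Or.inl (by group)
      · exact Or.inr (by group)
    · rintro (r | r)
      · exact Or.inl (by rw [show x = g * (g⁻¹ * x * g) * g⁻¹ by group, r]; group)
      · exact Or.inr (by rw [← r]; group)

theorem Sys.pair_quo (W : Loc24 D d) {E0 : ↥(loc D d) ⧸ Subgroup.center ↥(loc D d)} (W2 : Loc23 (img D d) E0)
    {a b : G} (ha : a ∈ D) (hb : b ∈ perp D a) :
    ∃ π : G → ↥(loc (img D d) E0) ⧸ Subgroup.center ↥(loc (img D d) E0),
      Quo (Subgroup.centralizer ({a, b} : Set G)) (perp D a ∩ perp D b) {1, a, b, a * b}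
        (img (img D d) E0) π := by
  obtain ⟨L1, -⟩ := lev23 W.ihyp W.iprim W.type
  obtain ⟨π1, Q1, hb1⟩ := loc_quo S.hyp W.nc W.zl (S.lev.cent d W.mem)
  obtain ⟨π2, Q2, -⟩ := loc_quo W.ihyp W2.nc W2.zl (L1.cent E0 W2.mem)
  obtain ⟨e, he, rfl⟩ := exists_bar W2.mem
  have he1 : e ∈ Subgroup.centralizer ({d} : Set G) := mem_cent_one.2 he.2.2.symm
  have hK : ∀ {x}, x ∈ Subgroup.centralizer ({d, e} : Set G) →
      x ∈ Subgroup.centralizer ({d} : Set G) ∧ π1 x ∈ Subgroup.centralizer ({bar he} : Set _) := fun {x} hx => by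
    obtain ⟨h1, h2⟩ := mem_cent_two.1 hx
    have hx1 := mem_cent_one.2 h1
    refine ⟨hx1, mem_cent_one.2 ?_⟩
    show π1 x * bar he = bar he * π1 x
    rw [← hb1 e he, ← Q1.mul _ hx1 _ he1, h2.eq, Q1.mul _ he1 _ hx1]
  have hmk : ∀ {x}, x ∈ Subgroup.centralizer ({d} : Set G) → π1 x ∈ Subgroup.centralizer ({bar he} : Set _) →
      x ∈ Subgroup.centralizer ({d, e} : Set G) := fun {x} hx hc => by
    refine mem_cent_two.2 ⟨mem_cent_one.1 hx, ?_⟩
    have e1 := Q1.inj _ (Q1.stable x hx e he) _ he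
      (by rw [Q1.map_conj hx he1, hb1 e he, conj_eq_of_commute (mem_cent_one.1 hc)])
    exact mul_inv_eq_iff_eq_mul.1 e1
  have hE : ∀ {x}, x ∈ perp D d ∩ perp D e → π1 x ∈ perp (img D d) (bar he) := fun {x} hx => by
    rw [hb1 x hx.1]; exact (bar_perp S.hyp W.nc hx.1 he).2 hx.2
  have QB : Quo (Subgroup.centralizer ({d, e} : Set G)) (perp D d ∩ perp D e) {1, d, e, d * e}
      (img (img D d) (bar he)) (fun x => π2 (π1 x)) := by
    have hzK : ∀ z ∈ ({1, d, e, d * e} : Set G), z ∈ Subgroup.centralizer ({d, e} : Set G) := by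
      have h1 : d ∈ Subgroup.centralizer ({d, e} : Set G) := mem_cent_two.2 ⟨Commute.refl d, he.2.2⟩
      have h2 : e ∈ Subgroup.centralizer ({d, e} : Set G) := mem_cent_two.2 ⟨he.2.2.symm, Commute.refl e⟩
      rintro z (rfl | rfl | rfl | rfl)
      exacts [one_mem _, h1, h2, mul_mem h1 h2]
    refine ⟨fun x hx y hy => ?_, fun q => ?_, fun x hx => mem_cent_two.2 ⟨hx.1.2.2.symm, hx.2.2.2.symm⟩,
      fun x hx => Q2.mem _ (hE hx), fun q hq => ?_, fun x hx y hy r => Q1.inj x hx.1 y hy.1 (Q2.inj _ (hE hx) _ (hE hy) r),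
      fun g hg x hx => ⟨perp_conj_mem S.hyp (mem_cent_two.1 hg).1 hx.1,
        perp_conj_mem S.hyp (mem_cent_two.1 hg).2 hx.2⟩, fun x hx r => ?_, hzK, fun z hz => ?_⟩
    · show π2 _ = _
      rw [Q1.mul _ (hK hx).1 _ (hK hy).1, Q2.mul _ (hK hx).2 _ (hK hy).2]
    · obtain ⟨p, hp, rfl⟩ := Q2.surj q
      obtain ⟨x, hx, rfl⟩ := Q1.surj p
      exact ⟨x, hmk hx hp, rfl⟩
    · obtain ⟨p, hp, rfl⟩ := Q2.onto q hq
      obtain ⟨x, hx, rfl⟩ := Q1.onto p hp.1
      rw [hb1 x hx] at hp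
      exact ⟨x, ⟨hx, (bar_perp S.hyp W.nc hx he).1 hp⟩, rfl⟩
    · rcases Q2.ker _ (hK hx).2 r with r1 | r1
      · rcases Q1.ker _ (hK hx).1 r1 with rfl | rfl
        · exact Or.inl rfl
        · exact Or.inr (Or.inl rfl)
      · rcases Q1.ker (x * e⁻¹) (mul_mem (hK hx).1 (inv_mem he1))
          (by rw [Q1.mul _ (hK hx).1 _ (inv_mem he1), Q1.map_inv he1, Set.mem_singleton_iff.1 r1, hb1 e he,
            mul_inv_cancel]) with r2 | r2
        · exact Or.inr (Or.inr (Or.inl (mul_inv_eq_one.1 r2)))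
        · exact Or.inr (Or.inr (Or.inr (by
            rw [Set.mem_singleton_iff] at r2
            rw [Set.mem_singleton_iff, ← r2]; group)))
    · have hd1 : π1 d = 1 := Q1.zker d (Or.inr rfl)
      have he2 : π2 (π1 e) = 1 := by rw [hb1 e he]; exact Q2.zker _ (Or.inr rfl)
      show π2 (π1 z) = 1
      rcases hz with rfl | rfl | rfl | rfl
      · rw [Q1.one, Q2.one]
      · rw [hd1, Q2.one]
      · exact he2
      · rw [Q1.mul _ (mem_cent_one.2 (Commute.refl d)) _ he1, hd1, one_mul, he2]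
  obtain ⟨g, hg⟩ := tup_two_of_lev S.lev (by norm_num) [d, e] [a, b] rfl rfl (tuple_pair S.hyp W.mem he)
    (tuple_pair S.hyp ha hb)
  simp only [List.map_cons, List.map_nil, List.cons.injEq, and_true] at hg
  obtain ⟨rfl, rfl⟩ := hg
  refine ⟨_, QB.conj g (fun x => ?_) (fun x => ?_) fun x => ?_⟩
  · rw [mem_cent_two, mem_cent_two, ← Commute.conj_iff g (a := g⁻¹ * x * g) (b := d),
      ← Commute.conj_iff g (a := g⁻¹ * x * g) (b := e), show g * (g⁻¹ * x * g) * g⁻¹ = x by group]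
  · rw [image_inter_conj S.hyp]
    refine ⟨?_, fun r => ⟨_, r, by group⟩⟩
    rintro ⟨y, hy, rfl⟩
    rwa [show g⁻¹ * (g * y * g⁻¹) * g = y by group]
  · have key : ∀ u : G, x = g * u * g⁻¹ ↔ g⁻¹ * x * g = u :=
      fun u => ⟨fun r => by rw [r]; group, fun r => by rw [← r]; group⟩
    simp only [Set.mem_insert_iff, Set.mem_singleton_iff]
    rw [← key, ← key, ← key, ← key, mul_one, mul_inv_cancel,
      show g * (d * e) * g⁻¹ = g * d * g⁻¹ * (g * e * g⁻¹) by group]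

/-- The centralizer of a member is generated by its neighbours. -/
theorem Sys.cent_eq {a : G} (ha : a ∈ D) : Subgroup.centralizer ({a} : Set G) = Subgroup.closure (perp D a) :=
  le_antisymm (S.lev.cent a ha) ((Subgroup.closure_le _).2 fun _ hx => mem_cent_one.2 hx.2.2.symm)

theorem Sys.pair_gen {a b : G} (ha : a ∈ D) (hb : b ∈ perp D a) : Subgroup.centralizer ({a, b} : Set G) ≤
    Subgroup.closure (perp D a ∩ perp D b ∪ {1, a, b, a * b}) := by
  obtain ⟨d, W⟩ := local24 S.hyp S.prim S.type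
  obtain ⟨E0, W2⟩ := local23 W.ihyp W.iprim W.type
  obtain ⟨π, Q⟩ := S.pair_quo W W2 ha hb
  exact Q.gen W2.ihyp.gen

theorem Sys.trans_perp {a x y : G} (ha : a ∈ D) (hx : x ∈ perp D a) (hy : y ∈ perp D a) :
    ∃ g : G, Commute g a ∧ g * x * g⁻¹ = y := by
  obtain ⟨d, W⟩ := local24 S.hyp S.prim S.type
  obtain ⟨π, Q⟩ := S.pt_quo W ha
  obtain ⟨g, hg, e⟩ := Q.trans_on W.ihyp.transitive hx hy
  exact ⟨g, mem_cent_one.1 hg, e⟩

theorem Sys.trans_pair {a b x y : G} (ha : a ∈ D) (hb : b ∈ perp D a) (hx : x ∈ perp D a ∩ perp D b)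
    (hy : y ∈ perp D a ∩ perp D b) : ∃ g : G, Commute g a ∧ Commute g b ∧ g * x * g⁻¹ = y := by
  obtain ⟨d, W⟩ := local24 S.hyp S.prim S.type
  obtain ⟨E0, W2⟩ := local23 W.ihyp W.iprim W.type
  obtain ⟨π, Q⟩ := S.pair_quo W W2 ha hb
  obtain ⟨g, hg, e⟩ := Q.trans_on W2.ihyp.transitive hx hy
  exact ⟨g, (mem_cent_two.1 hg).1, (mem_cent_two.1 hg).2, e⟩

/-- Rigidity in the centralizer of a member. -/
theorem Sys.rig_pt {a b : G} (ha : a ∈ D) {φ : G → G} (hφ : AutOn (Subgroup.centralizer ({a} : Set G)) φ)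
    (hφa : φ a = a) (hφE : ∀ x ∈ perp D a, φ x ∈ perp D a) (hb : b ∈ perp D a) (hφb : φ b = b)
    (hfix : ∀ x ∈ perp D a, x ∈ perp D b → φ x = x) :
    (∀ x ∈ perp D a, φ x = x) ∨ ∀ x ∈ perp D a, φ x = b * x * b := by
  obtain ⟨d, W⟩ := local24 S.hyp S.prim S.type
  obtain ⟨π, Q⟩ := S.pt_quo W ha
  refine Q.rig S.hyp (fun x hx => hx.1) (lev23 W.ihyp W.iprim W.type).1 hφ ?_ hφE hb hφb hfix
  rintro z (rfl | rfl)
  · exact Or.inl hφ.map_one
  · exact Or.inr hφa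

/-- Rigidity in the centralizer of a commuting pair. -/
theorem Sys.rig_pair {a b f : G} (ha : a ∈ D) (hb : b ∈ perp D a) {φ : G → G}
    (hφ : AutOn (Subgroup.centralizer ({a, b} : Set G)) φ) (hφa : φ a = a) (hφb : φ b = b)
    (hφE : ∀ x ∈ perp D a ∩ perp D b, φ x ∈ perp D a ∩ perp D b) (hf : f ∈ perp D a ∩ perp D b) (hφf : φ f = f)
    (hfix : ∀ x ∈ perp D a ∩ perp D b, x ∈ perp D f → φ x = x) :
    (∀ x ∈ perp D a ∩ perp D b, φ x = x) ∨ ∀ x ∈ perp D a ∩ perp D b, φ x = f * x * f := by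
  obtain ⟨d, W⟩ := local24 S.hyp S.prim S.type
  obtain ⟨E0, W2⟩ := local23 W.ihyp W.iprim W.type
  obtain ⟨π, Q⟩ := S.pair_quo W W2 ha hb
  refine Q.rig S.hyp (fun x hx => hx.1.1) (lev22 W2.ihyp W2.iprim W2.type).1 hφ ?_ hφE hf hφf hfix
  rintro z (rfl | rfl | rfl | rfl)
  · exact Or.inl hφ.map_one
  · exact Or.inr (Or.inl hφa)
  · exact Or.inr (Or.inr (Or.inl hφb))
  · exact Or.inr (Or.inr (Or.inr (by
      rw [Set.mem_singleton_iff, hφ.2.1 a (mem_cent_two.2 ⟨Commute.refl a, hb.2.2⟩) b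
        (mem_cent_two.2 ⟨hb.2.2.symm, Commute.refl b⟩), hφa, hφb])))

/-- Two maps exchanging a commuting pair and not inner differ by an inner one. -/
theorem Sys.out_pair {a b : G} (ha : a ∈ D) (hb : b ∈ perp D a) {φ ψ : G → G}
    (hφ : AutOn (Subgroup.centralizer ({a, b} : Set G)) φ) (hψ : AutOn (Subgroup.centralizer ({a, b} : Set G)) ψ)
    (hsφ : φ a = b ∧ φ b = a) (hsψ : ψ a = b ∧ ψ b = a)
    (hφE : ∀ x ∈ perp D a ∩ perp D b, φ x ∈ perp D a ∩ perp D b)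
    (hψE : ∀ x ∈ perp D a ∩ perp D b, ψ x ∈ perp D a ∩ perp D b)
    (nφ : ¬ ∃ c ∈ Subgroup.centralizer ({a, b} : Set G), ∀ x ∈ perp D a ∩ perp D b, φ x = c * x * c⁻¹)
    (nψ : ¬ ∃ c ∈ Subgroup.centralizer ({a, b} : Set G), ∀ x ∈ perp D a ∩ perp D b, ψ x = c * x * c⁻¹) :
    ∃ c ∈ Subgroup.centralizer ({a, b} : Set G), ∀ x ∈ perp D a ∩ perp D b, φ x = c * ψ x * c⁻¹ := by
  obtain ⟨d, W⟩ := local24 S.hyp S.prim S.type
  obtain ⟨E0, W2⟩ := local23 W.ihyp W.iprim W.type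
  obtain ⟨π, Q⟩ := S.pair_quo W W2 ha hb
  obtain ⟨L2, -⟩ := lev22 W2.ihyp W2.iprim W2.type
  obtain ⟨e, -⟩ := Y332.exists_equiv_fi22_class W2.ihyp W2.iprim W2.type
  have haut : Nat.card (MulAut (↥(loc (img D d) E0) ⧸ Subgroup.center ↥(loc (img D d) E0))) ≤
      2 * Nat.card (↥(loc (img D d) E0) ⧸ Subgroup.center ↥(loc (img D d) E0)) := by
    rw [Nat.card_congr (MulAut.congr e).toEquiv, Nat.card_congr e.toEquiv]
    exact card_aut_fi22_le
  have hz : ∀ {χ : G → G}, AutOn (Subgroup.centralizer ({a, b} : Set G)) χ → χ a = b ∧ χ b = a →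
      ∀ z ∈ ({1, a, b, a * b} : Set G), χ z ∈ ({1, a, b, a * b} : Set G) := by
    intro χ hχ hs z hz
    rcases hz with rfl | rfl | rfl | rfl
    · exact Or.inl hχ.map_one
    · exact Or.inr (Or.inr (Or.inl hs.1))
    · exact Or.inr (Or.inl hs.2)
    · exact Or.inr (Or.inr (Or.inr (by
        rw [Set.mem_singleton_iff, hχ.2.1 a (mem_cent_two.2 ⟨Commute.refl a, hb.2.2⟩) b
          (mem_cent_two.2 ⟨hb.2.2.symm, Commute.refl b⟩), hs.1, hs.2, hb.2.2.eq])))
  exact Q.out L2.center haut hφ hψ (hz hφ hsφ) (hz hψ hsψ) hφE hψE nφ nψ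

end CfsgLib.Spor.Tri.U24
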