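/-
A counting identity for the members commuting with a non-commuting pair, and the absence of an element
exchanging a commuting pair while fixing their common neighbours.
-/
import Cfsg.Agent.Lib.Spor.Tri.M24Unique.Sys
import Mathlib.Algebra.Order.BigOperators.Ring.Finset
import Mathlib.Tactic.LinearCombination

set_option autoImplicit false

namespace CfsgLib.Spor.Tri.U24

open CfsgLib.Spor.Tri CfsgLib.Spor.Tri.Relations CfsgLib.Spor.Tri.Level CfsgLib.Spor.Tri.Golay

variable {G : Type*} [Group G] [Finite G] {D : Set G} (S : Sys D)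
include S

theorem Sys.mu_local {a p q : G} (ha : a ∈ D) (hp : p ∈ perp D a) (hq : q ∈ perp D a) (hn : ¬ Commute p q) :
    (perp D a ∩ perp D p ∩ perp D q).ncard = 351 := by
  obtain ⟨d, W⟩ := local24 S.hyp S.prim S.type
  rw [Set.inter_assoc]
  exact (triple_of_local S.hyp W.mem W.nc (lev23 W.ihyp W.iprim W.type).1 ha hp hq (ne_of_not_commute hn)).2 hn

theorem Sys.lam_local {a p q : G} (ha : a ∈ D) (hp : p ∈ perp D a) (hq : q ∈ perp D a) (hpq : q ∈ perp D p) :
    (perp D a ∩ perp D p ∩ perp D q).ncard = 693 := by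
  obtain ⟨d, W⟩ := local24 S.hyp S.prim S.type
  rw [Set.inter_assoc]
  exact (triple_of_local S.hyp W.mem W.nc (lev23 W.ihyp W.iprim W.type).1 ha hp hq hpq.2.1.symm).1 hpq.2.2

theorem Sys.deg_common {a b p : G} (ha : a ∈ D) (hb : b ∈ D) (hn : ¬ Commute a b)
    (hp : p ∈ perp D a ∩ perp D b) : (perp D a ∩ perp D b ∩ perp D p).ncard = 351 := by
  obtain ⟨d, W⟩ := local24 S.hyp S.prim S.type
  exact common_deg S.hyp W.mem W.nc (lev23 W.ihyp W.iprim W.type).1 ha hb hn hp

/-- A set of common neighbours closed under adjacency meets the neighbours of every further member in a ninth. -/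
theorem Sys.count {a b e : G} (ha : a ∈ D) (hb : b ∈ D) (hn : ¬ Commute a b) (C : Set G)
    (hC : C ⊆ perp D a ∩ perp D b) (hcl : ∀ p ∈ C, ∀ q ∈ perp D a ∩ perp D b, q ∈ perp D p → q ∈ C)
    (he : e ∈ perp D a) (hne : e ∉ perp D b) : 9 * (C ∩ perp D e).ncard = C.ncard := by
  classical
  set P := (Set.toFinite (perp D a)).toFinset with hP
  set Cf := (Set.toFinite C).toFinset with hCf
  have mP : ∀ {x}, x ∈ P ↔ x ∈ perp D a := fun {x} => Set.Finite.mem_toFinset _
  have mC : ∀ {x}, x ∈ Cf ↔ x ∈ C := fun {x} => Set.Finite.mem_toFinset _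
  have cnt : ∀ (F : Finset G) (T U : Set G), (∀ x, x ∈ F ↔ x ∈ T) →
      ∑ x ∈ F, (if x ∈ U then (1 : ℤ) else 0) = ((T ∩ U).ncard : ℤ) := by
    intro F T U hF
    rw [Finset.sum_boole, ← Set.ncard_coe_finset]
    congr 2
    ext x
    simp [hF]
  let δ : G → G → ℤ := fun x p => if p ∈ perp D x then 1 else 0
  have δ_symm : ∀ {x p}, x ∈ D → p ∈ D → δ x p = δ p x := fun {x p} hx hp =>
    if_congr ⟨fun r => perp_symm hx r, fun r => perp_symm hp r⟩ rfl rfl
  let f : G → ℤ := fun x => ∑ p ∈ Cf, δ x p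
  have hf : ∀ x, f x = ((C ∩ perp D x).ncard : ℤ) := fun x => cnt Cf C _ fun y => mC
  set c : ℤ := (C.ncard : ℤ) with hc
  have hcard : (Cf.card : ℤ) = c := by rw [hc, hCf, Set.ncard_eq_toFinset_card C]
  have inS : ∀ p ∈ C, (C ∩ perp D p).ncard = 351 := fun p hp => by
    rw [← S.deg_common ha hb hn (hC hp)]
    congr 1
    ext q
    exact ⟨fun r => ⟨hC r.1, r.2⟩, fun r => ⟨hcl p hp q r.1 r.2, r.2⟩⟩
  -- first moment
  have m1 : ∑ x ∈ P, f x = 3510 * c := by
    rw [Finset.sum_comm, ← hcard]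
    rw [Finset.sum_congr rfl (g := fun _ => (3510 : ℤ)) fun p hp => ?_]
    · rw [Finset.sum_const, nsmul_eq_mul]; ring
    have hp' := hC (mC.1 hp)
    rw [Finset.sum_congr rfl fun x hx => δ_symm (mP.1 hx).1 hp'.1.1, cnt P _ _ fun y => mP,
      S.lev.lam a ha p hp'.1]
    rfl
  -- second moment
  have row : ∀ p ∈ Cf, ∑ q ∈ Cf, ∑ x ∈ P, δ x p * δ x q = 351 * c + 123201 := by
    intro p hp
    have hp' := mC.1 hp
    have hT : ∀ q ∈ Cf, ∑ x ∈ P, δ x p * δ x q =
        351 + (if q = p then 3159 else 0) + 342 * (if q ∈ perp D p then 1 else 0) := by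
      intro q hq
      have hq' := mC.1 hq
      have e1 : ∀ x ∈ P, δ x p * δ x q = (if x ∈ perp D p ∩ perp D q then 1 else 0) := fun x hx => by
        rw [δ_symm (mP.1 hx).1 (hC hp').1.1, δ_symm (mP.1 hx).1 (hC hq').1.1]
        by_cases h1 : x ∈ perp D p <;> by_cases h2 : x ∈ perp D q <;> simp [δ, h1, h2]
      have e2 : ∑ x ∈ P, δ x p * δ x q = ((perp D a ∩ (perp D p ∩ perp D q)).ncard : ℤ) := by
        rw [Finset.sum_congr rfl e1]
        convert cnt P (perp D a) (perp D p ∩ perp D q) fun y => mP using 3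
      rw [e2]
      by_cases h1 : q = p
      · subst h1
        rw [Set.inter_self, S.lev.lam a ha q (hC hq').1, if_pos rfl, if_neg fun r => r.2.1 rfl]
        norm_num
      rw [if_neg h1, ← Set.inter_assoc]
      by_cases h2 : q ∈ perp D p
      · rw [S.lam_local ha (hC hp').1 (hC hq').1 h2, if_pos h2]; norm_num
      · rw [S.mu_local ha (hC hp').1 (hC hq').1 fun r => h2 ⟨(hC hq').1.1, h1, r⟩, if_neg h2]; norm_num
    rw [Finset.sum_congr rfl hT, Finset.sum_add_distrib, Finset.sum_add_distrib, Finset.sum_const,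
      Finset.sum_ite_eq' Cf p, if_pos hp, ← Finset.mul_sum, cnt Cf C _ fun y => mC, inS p hp',
      nsmul_eq_mul, hcard]
    push_cast
    ring
  have m2 : ∑ x ∈ P, f x * f x = c * (351 * c + 123201) := by
    calc ∑ x ∈ P, f x * f x = ∑ p ∈ Cf, ∑ q ∈ Cf, ∑ x ∈ P, δ x p * δ x q := by
          simp only [f, Finset.sum_mul_sum]
          rw [Finset.sum_comm]
          exact Finset.sum_congr rfl fun p _ => Finset.sum_comm
      _ = ∑ p ∈ Cf, (351 * c + 123201) := Finset.sum_congr rfl row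
      _ = _ := by rw [Finset.sum_const, nsmul_eq_mul, hcard]
  -- the part inside
  set PI := P.filter (fun x => x ∈ perp D b) with hPI
  set PO := P.filter (fun x => x ∉ perp D b) with hPO
  have hin : ∀ x ∈ PI, f x = if x ∈ Cf then 351 else 0 := by
    intro x hx
    obtain ⟨hxa, hxb⟩ := Finset.mem_filter.1 hx
    by_cases hxC : x ∈ Cf
    · rw [if_pos hxC, hf, inS x (mC.1 hxC)]; rfl
    · rw [if_neg hxC, hf, Nat.cast_eq_zero, Set.ncard_eq_zero (Set.toFinite _)]
      refine Set.eq_empty_of_forall_notMem fun p hp => hxC (mC.2 ?_)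
      exact hcl p hp.1 x ⟨mP.1 hxa, hxb⟩ (perp_symm (mP.1 hxa).1 hp.2)
  have hsub : PI.filter (fun x => x ∈ Cf) = Cf := by
    ext x
    simp only [hPI, Finset.mem_filter]
    exact ⟨fun r => r.2, fun r => ⟨⟨mP.2 (hC (mC.1 r)).1, (hC (mC.1 r)).2⟩, r⟩⟩
  have i1 : ∑ x ∈ PI, f x = 351 * c := by
    rw [Finset.sum_congr rfl hin, ← Finset.sum_filter, hsub, Finset.sum_const, nsmul_eq_mul, hcard]; ring
  have i2 : ∑ x ∈ PI, f x * f x = 123201 * c := by
    rw [Finset.sum_congr rfl fun x hx => show f x * f x = if x ∈ Cf then 123201 else 0 by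
        rw [hin x hx]; split_ifs <;> norm_num, ← Finset.sum_filter, hsub, Finset.sum_const, nsmul_eq_mul, hcard]
    ring
  have sPO : ∀ g : G → ℤ, ∑ x ∈ PI, g x + ∑ x ∈ PO, g x = ∑ x ∈ P, g x := fun g =>
    Finset.sum_filter_add_sum_filter_not P _ g
  have nPO : (PO.card : ℤ) = 28431 := by
    have e1 : PI.card = (perp D a ∩ perp D b).ncard := by
      rw [← Set.ncard_coe_finset]; congr 1; ext x; simp [hPI, mP]
    have e2 := Finset.card_filter_add_card_filter_not (s := P) (fun x => x ∈ perp D b)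
    rw [← hPI, ← hPO, e1, S.lev.mu a ha b hb hn] at e2
    have e3 : P.card = 31671 := by rw [← S.lev.deg a ha, hP, Set.ncard_eq_toFinset_card]
    omega
  have key : ∑ x ∈ PO, (9 * f x - c) * (9 * f x - c) = 0 := by
    have e : ∀ x, (9 * f x - c) * (9 * f x - c) = 81 * (f x * f x) - 18 * c * f x + c * c := fun x => by ring
    rw [Finset.sum_congr rfl fun x _ => e x, Finset.sum_add_distrib, Finset.sum_sub_distrib, ← Finset.mul_sum,
      ← Finset.mul_sum, Finset.sum_const, nsmul_eq_mul, nPO]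
    have a1 := sPO f
    have a2 := sPO (fun x => f x * f x)
    rw [i1, m1] at a1
    rw [i2, m2] at a2
    linear_combination 81 * a2 - 18 * c * a1
  have h0 := (Finset.sum_eq_zero_iff_of_nonneg fun x _ => mul_self_nonneg _).1 key e
    (Finset.mem_filter.2 ⟨mP.2 he, hne⟩)
  rw [mul_self_eq_zero, sub_eq_zero, hf, hc] at h0
  exact_mod_cast h0

/-- A member meets the common neighbours of a non-commuting pair inside one neighbourhood in 360. -/
theorem Sys.card_triple {a b e : G} (ha : a ∈ D) (hb : b ∈ D) (hn : ¬ Commute a b) (he : e ∈ perp D a)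
    (hne : e ∉ perp D b) : (perp D a ∩ perp D b ∩ perp D e).ncard = 360 := by
  have := S.count ha hb hn _ subset_rfl (fun p _ q hq _ => hq) he hne
  rw [S.lev.mu a ha b hb hn] at this
  omega

/-- Nothing exchanges a commuting pair and fixes all their common neighbours. -/
theorem Sys.no_swap {a b g : G} (ha : a ∈ D) (hb : b ∈ perp D a) (hga : g * a * g⁻¹ = b) (hgb : g * b * g⁻¹ = a)
    (hfix : ∀ x ∈ perp D a ∩ perp D b, g * x * g⁻¹ = x) : False := by
  classical
  obtain ⟨B, hB, hsub⟩ := base_through S.data (S := {a, b})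
    (by rintro x (rfl | rfl); exacts [ha, hb.1])
    (by rintro x (rfl | rfl) y (rfl | rfl); exacts [Commute.refl _, hb.2.2, hb.2.2.symm, Commute.refl _])
  have haB : a ∈ B := hsub (Or.inl rfl)
  have hbB : b ∈ B := hsub (Or.inr rfl)
  have hfixB : ∀ x ∈ B, x ≠ a → x ≠ b → g * x * g⁻¹ = x := fun x hx h1 h2 =>
    hfix x ⟨⟨hB.sub x hx, h1, hB.comm a haB x hx⟩, hB.sub x hx, h2, hB.comm b hbB x hx⟩
  obtain ⟨s, hs, hscard⟩ := Finset.exists_subset_card_eq (s := (B.erase a).erase b) (n := 3) (by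
    rw [Finset.card_erase_of_mem (Finset.mem_erase.2 ⟨hb.2.1, hbB⟩), Finset.card_erase_of_mem haB, hB.card]
    norm_num)
  obtain ⟨u, v, w, huv, huw, hvw, rfl⟩ := Finset.card_eq_three.1 hscard
  have hin : ∀ x ∈ ({u, v, w} : Finset G), x ∈ B ∧ x ≠ a ∧ x ≠ b := fun x hx => by
    have := hs hx
    simp only [Finset.mem_erase] at this
    exact ⟨this.2.2, this.2.1, this.1⟩
  obtain ⟨hu, hua, hub⟩ := hin u (by simp)
  obtain ⟨hv, hva, hvb⟩ := hin v (by simp)
  obtain ⟨hw, hwa, hwb⟩ := hin w (by simp)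
  obtain ⟨O, hO, hOm, -, hOu, -⟩ := five_octad S.data hB (a := a) (b := b) (c := u) (e := v) (g := w)
    (by simp [hb.2.1.symm, hua.symm, hva.symm, hwa.symm, hub.symm, hvb.symm, hwb.symm, huv, huw, hvw])
    (by simp [haB, hbB, hu, hv, hw])
  obtain ⟨z, hz, hzO⟩ : ∃ z ∈ B, z ∉ O := by
    by_contra hcon
    push Not at hcon
    have := Finset.card_le_card hcon
    rw [hB.card, (octs_sub hO).2] at this
    omega
  have hza : z ≠ a := fun r => hzO (r ▸ hOm a (by simp))
  have hzb : z ≠ b := fun r => hzO (r ▸ hOm b (by simp))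
  have hzu : z ≠ u := fun r => hzO (r ▸ hOm u (by simp))
  have hzv : z ≠ v := fun r => hzO (r ▸ hOm v (by simp))
  have hzw : z ≠ w := fun r => hzO (r ▸ hOm w (by simp))
  obtain ⟨O2, hO2, hO2m, -, -, -⟩ := five_octad S.data hB (a := a) (b := u) (c := v) (e := w) (g := z)
    (by simp [hua.symm, hva.symm, hwa.symm, hza.symm, huv, huw, hvw, hzu.symm, hzv.symm, hzw.symm])
    (by simp [haB, hu, hv, hw, hz])
  have hbO2 : b ∉ O2 := fun r => by
    have := hOu O2 hO2 (by simp [hO2m a (by simp), r, hO2m u (by simp), hO2m v (by simp), hO2m w (by simp)])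
    exact hzO (this ▸ hO2m z (by simp))
  -- the image of the octad
  obtain ⟨y, ⟨hyD, hyB⟩, hy8, hyO⟩ := mem_octs.1 hO2
  have himgB : ∀ x ∈ B, g * x * g⁻¹ ∈ B := fun x hx => by
    rcases eq_or_ne x a with rfl | h1
    · rwa [hga]
    rcases eq_or_ne x b with rfl | h2
    · rwa [hgb]
    rwa [hfixB x hx h1 h2]
  have hinj : Function.Injective fun x : G => g * x * g⁻¹ := fun x x' r => mul_left_cancel (mul_right_cancel r)
  have himg : B.image (fun x => g * x * g⁻¹) = B := Finset.eq_of_subset_of_card_le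
    (Finset.image_subset_iff.2 himgB) (by rw [Finset.card_image_of_injective _ hinj])
  have hback : ∀ x, g * x * g⁻¹ ∈ B → x ∈ B := fun x hx => by
    rw [← himg, Finset.mem_image] at hx
    obtain ⟨x', hx', r⟩ := hx
    exact hinj r ▸ hx'
  have hO3 : O2.image (fun x => g * x * g⁻¹) ∈ octs D B := by
    have e : nb B (g * y * g⁻¹) = O2.image (fun x => g * x * g⁻¹) := by
      ext x
      rw [mem_nb, Finset.mem_image, ← hyO]
      constructor
      · rintro ⟨hx, hc⟩
        obtain ⟨x', hx', rfl⟩ := Finset.mem_image.1 (himg.symm ▸ hx : x ∈ B.image (fun x => g * x * g⁻¹))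
        exact ⟨x', mem_nb.2 ⟨hx', (Commute.conj_iff g).1 hc⟩, rfl⟩
      · rintro ⟨x', hx', rfl⟩
        exact ⟨himgB _ (mem_nb.1 hx').1, (Commute.conj_iff g).2 (mem_nb.1 hx').2⟩
    refine mem_octs.2 ⟨g * y * g⁻¹, ⟨S.hyp.conj g y hyD, fun r => hyB (hback y r)⟩, ?_, e⟩
    rw [e, Finset.card_image_of_injective _ hinj, ← hy8, hyO]
  -- five common members
  have haO2 : a ∈ O2 := hO2m a (by simp)
  obtain ⟨t, ht, htc⟩ := Finset.exists_subset_card_eq (s := O2.erase a) (n := 5)
    (by rw [Finset.card_erase_of_mem haO2, (octs_sub hO2).2]; norm_num)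
  have htmem : ∀ x ∈ t, x ∈ O2 ∧ x ∈ B ∧ g * x * g⁻¹ = x := fun x hx => by
    obtain ⟨h1, h2⟩ := Finset.mem_erase.1 (ht hx)
    exact ⟨h2, (octs_sub hO2).1 h2, hfixB x ((octs_sub hO2).1 h2) h1 fun r => hbO2 (r ▸ h2)⟩
  obtain ⟨l, hl, hln, rfl⟩ : ∃ l : List G, l.length = 5 ∧ l.Nodup ∧ l.toFinset = t :=
    ⟨t.toList, by rw [Finset.length_toList, htc], Finset.nodup_toList t, Finset.toList_toFinset t⟩
  match l, hl with
  | [p, q, r, s', o], _ =>
    obtain ⟨O', -, -, -, huniq, -⟩ := five_octad S.data hB hln fun x hx => (htmem x (List.mem_toFinset.2 hx)).2.1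
    have e2 := huniq O2 hO2 fun x hx => (htmem x (List.mem_toFinset.2 hx)).1
    have e3 := huniq _ hO3 fun x hx => Finset.mem_image.2
      ⟨x, (htmem x (List.mem_toFinset.2 hx)).1, (htmem x (List.mem_toFinset.2 hx)).2.2⟩
    refine hbO2 ?_
    rw [e2, ← e3, Finset.mem_image]
    exact ⟨a, haO2, hga⟩

end CfsgLib.Spor.Tri.U24
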