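/-
Isomorphisms between the centralizers of members of two groups of type M(24), as functions.
-/
import Cfsg.Agent.Lib.Spor.Tri.M24Unique.Count
import Cfsg.Agent.Lib.Spor.Tri.M23Iso
import Cfsg.Agent.Lib.Spor.Tri.TripleM24

set_option autoImplicit false

namespace CfsgLib.Spor.Tri.U24

open CfsgLib.Spor.Tri CfsgLib.Spor.Tri.Relations CfsgLib.Spor.Tri.Level

variable {G G' : Type*} [Group G] [Group G'] {D : Set G} {D' : Set G'}

/-- An isomorphism of the centralizer of `a` with that of `a'`, carrying neighbours to neighbours. -/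
structure Chart (D : Set G) (D' : Set G') (a : G) (a' : G') (ψ : G → G') : Prop where
  mul : ∀ x, Commute x a → ∀ y, Commute y a → ψ (x * y) = ψ x * ψ y
  inj : ∀ x, Commute x a → ψ x = 1 → x = 1
  base : ψ a = a'
  perp_mem : ∀ x ∈ perp D a, ψ x ∈ perp D' a'
  surj : ∀ y, Commute y a' → ∃ x, Commute x a ∧ ψ x = y

section basic

variable {a : G} {a' : G'} {ψ : G → G'} (C : Chart D D' a a' ψ)
include C

theorem Chart.map_one : ψ 1 = 1 := by
  have := C.mul 1 (Commute.one_left a) 1 (Commute.one_left a)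
  rwa [mul_one, left_eq_mul] at this

theorem Chart.map_inv {x : G} (hx : Commute x a) : ψ x⁻¹ = (ψ x)⁻¹ := by
  have := C.mul x hx x⁻¹ hx.inv_left
  rw [mul_inv_cancel, C.map_one] at this
  exact eq_inv_of_mul_eq_one_right this.symm

theorem Chart.map_conj {g x : G} (hg : Commute g a) (hx : Commute x a) :
    ψ (g * x * g⁻¹) = ψ g * ψ x * (ψ g)⁻¹ := by
  rw [C.mul _ (hg.mul_left hx) _ hg.inv_left, C.mul g hg x hx, C.map_inv hg]

theorem Chart.injOn {x y : G} (hx : Commute x a) (hy : Commute y a) (e : ψ x = ψ y) : x = y :=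
  mul_inv_eq_one.1 (C.inj _ (hx.mul_left hy.inv_left)
    (by rw [C.mul x hx _ hy.inv_left, C.map_inv hy, e, mul_inv_cancel]))

theorem Chart.cent {x : G} (hx : Commute x a) : Commute (ψ x) a' := by
  show ψ x * a' = a' * ψ x
  rw [← C.base, ← C.mul x hx a (Commute.refl a), hx.eq, C.mul a (Commute.refl a) x hx]

theorem Chart.commute {x y : G} (hx : Commute x a) (hy : Commute y a) : Commute (ψ x) (ψ y) ↔ Commute x y := by
  constructor
  · intro r
    exact C.injOn (hx.mul_left hy) (hy.mul_left hx) (by rw [C.mul x hx y hy, C.mul y hy x hx, r.eq])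
  · intro r
    show ψ x * ψ y = ψ y * ψ x
    rw [← C.mul x hx y hy, r.eq, C.mul y hy x hx]

theorem Chart.perp_iff {x y : G} (hx : x ∈ perp D a) (hy : y ∈ perp D a) :
    ψ y ∈ perp D' (ψ x) ↔ y ∈ perp D x := by
  refine ⟨fun r => ⟨hy.1, fun e => r.2.1 (e ▸ rfl), (C.commute hx.2.2.symm hy.2.2.symm).1 r.2.2⟩,
    fun r => ⟨(C.perp_mem y hy).1, fun e => r.2.1 (C.injOn hy.2.2.symm hx.2.2.symm e),
      (C.commute hx.2.2.symm hy.2.2.symm).2 r.2.2⟩⟩

end basic

variable [Finite G] [Finite G']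

/-- The chart is onto on neighbours. -/
theorem Chart.perp_surj (S : Sys D) (S' : Sys D') {a : G} {a' : G'} {ψ : G → G'} (C : Chart D D' a a' ψ)
    (ha : a ∈ D) (ha' : a' ∈ D') {y : G'} (hy : y ∈ perp D' a') : ∃ x ∈ perp D a, ψ x = y := by
  have e : ψ '' perp D a = perp D' a' := by
    refine Set.eq_of_subset_of_ncard_le (Set.image_subset_iff.2 C.perp_mem) ?_ (Set.toFinite _)
    rw [Set.InjOn.ncard_image (fun x hx z hz r => C.injOn hx.2.2.symm hz.2.2.symm r), S.lev.deg a ha,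
      S'.lev.deg a' ha']
  rw [← e] at hy
  exact hy

/-- A chart is determined on the neighbours. -/
theorem Chart.ext (S : Sys D) {a : G} {a' : G'} {ψ χ : G → G'} (C : Chart D D' a a' ψ) (C' : Chart D D' a a' χ)
    (ha : a ∈ D) (h : ∀ x ∈ perp D a, χ x = ψ x) {x : G} (hx : Commute x a) : χ x = ψ x := by
  have hm : x ∈ Subgroup.closure (perp D a) := by rw [← S.cent_eq ha]; exact mem_cent_one.2 hx
  have hc : ∀ y ∈ Subgroup.closure (perp D a), Commute y a := fun y hy =>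
    mem_cent_one.1 (by rw [S.cent_eq ha]; exact hy)
  clear hx
  induction hm using Subgroup.closure_induction with
  | mem y hy => exact h y hy
  | one => rw [C.map_one, C'.map_one]
  | mul y z hy hz ey ez => rw [C.mul y (hc y hy) z (hc z hz), C'.mul y (hc y hy) z (hc z hz), ey, ez]
  | inv y hy ey => rw [C.map_inv (hc y hy), C'.map_inv (hc y hy), ey]

omit [Finite G] [Finite G'] in
/-- A chart carried by a pair of elements. -/
theorem Chart.transfer (h : Hyp D) (h' : Hyp D') {a b : G} {a' b' : G'} {ψ : G → G'} (C : Chart D D' a a' ψ)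
    (g : G) (g' : G') (hb : g * a * g⁻¹ = b) (hb' : g' * a' * g'⁻¹ = b') :
    Chart D D' b b' (fun x => g' * ψ (g⁻¹ * x * g) * g'⁻¹) := by
  have hc : ∀ {x}, Commute x b → Commute (g⁻¹ * x * g) a := fun {x} hx => by
    rw [← Commute.conj_iff g, show g * (g⁻¹ * x * g) * g⁻¹ = x by group, hb]; exact hx
  refine ⟨fun x hx y hy => ?_, fun x hx e => ?_, ?_, fun x hx => ?_, fun y hy => ?_⟩
  · rw [show g⁻¹ * (x * y) * g = g⁻¹ * x * g * (g⁻¹ * y * g) by group, C.mul _ (hc hx) _ (hc hy)]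
    group
  · have := C.inj _ (hc hx) (conj_eq_one_iff.1 e)
    rwa [mul_eq_one_iff_eq_inv, inv_mul_eq_iff_eq_mul, mul_inv_cancel] at this
  · show g' * ψ (g⁻¹ * b * g) * g'⁻¹ = b'
    rw [← hb, show g⁻¹ * (g * a * g⁻¹) * g = a by group, C.base, hb']
  · have hm : g⁻¹ * x * g ∈ perp D a := by
      refine ⟨by simpa using h.conj g⁻¹ x hx.1, fun r => hx.2.1 ?_, (hc hx.2.2.symm).symm⟩
      rw [← hb, ← r]; group
    obtain ⟨h1, h2, h3⟩ := C.perp_mem _ hm
    refine ⟨h'.conj g' _ h1, fun r => h2 (mul_left_cancel (mul_right_cancel (r.trans hb'.symm))), ?_⟩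
    rw [← hb']
    exact (Commute.conj_iff g').2 h3
  · obtain ⟨x, hx, e⟩ := C.surj (g'⁻¹ * y * g') (by
      rw [← Commute.conj_iff g', show g' * (g'⁻¹ * y * g') * g'⁻¹ = y by group, hb']; exact hy)
    refine ⟨g * x * g⁻¹, by rw [← hb]; exact (Commute.conj_iff g).2 hx, ?_⟩
    show g' * ψ (g⁻¹ * (g * x * g⁻¹) * g) * g'⁻¹ = y
    rw [show g⁻¹ * (g * x * g⁻¹) * g = x by group, e]
    group

omit [Finite G] [Finite G'] in
/-- A left inverse of a chart. -/
theorem Chart.back {a : G} {a' : G'} {ψ : G → G'} (C : Chart D D' a a' ψ) :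
    ∃ θ : G' → G, ∀ y, Commute y a' → Commute (θ y) a ∧ ψ (θ y) = y := by
  classical
  exact ⟨fun y => if hy : Commute y a' then (C.surj y hy).choose else 1, fun y hy => by
    simp only [dif_pos hy]
    exact (C.surj y hy).choose_spec⟩

/-- Two charts agreeing near a neighbour are equal or differ by that neighbour. -/
theorem Chart.rig (S : Sys D) (S' : Sys D') {a b : G} {a' : G'} {ψ χ : G → G'} (C : Chart D D' a a' ψ)
    (C' : Chart D D' a a' χ) (ha : a ∈ D) (ha' : a' ∈ D') (hb : b ∈ perp D a) (hbb : χ b = ψ b)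
    (hfix : ∀ x ∈ perp D a, x ∈ perp D b → χ x = ψ x) :
    (∀ x, Commute x a → χ x = ψ x) ∨ ∀ x, Commute x a → χ x = ψ (b * x * b) := by
  obtain ⟨θ, hθ⟩ := C.back
  have cl : ∀ {x}, x ∈ Subgroup.centralizer ({a} : Set G) → Commute x a := fun hx => mem_cent_one.1 hx
  have key : ∀ {x}, Commute x a → Commute (θ (χ x)) a ∧ ψ (θ (χ x)) = χ x := fun hx => hθ _ (C'.cent hx)
  have hφ : AutOn (Subgroup.centralizer ({a} : Set G)) (fun x => θ (χ x)) := by
    refine ⟨fun x hx => mem_cent_one.2 (key (cl hx)).1, fun x hx y hy => ?_, fun x hx e => ?_⟩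
    · refine C.injOn (key ((cl hx).mul_left (cl hy))).1 ((key (cl hx)).1.mul_left (key (cl hy)).1) ?_
      rw [(key ((cl hx).mul_left (cl hy))).2, C.mul _ (key (cl hx)).1 _ (key (cl hy)).1, (key (cl hx)).2,
        (key (cl hy)).2, C'.mul x (cl hx) y (cl hy)]
    · refine C'.inj x (cl hx) ?_
      have e' : θ (χ x) = 1 := e
      rw [← (key (cl hx)).2, e', C.map_one]
  have hE : ∀ x ∈ perp D a, θ (χ x) ∈ perp D a := fun x hx => by
    obtain ⟨y, hy, e⟩ := C.perp_surj S S' ha ha' (C'.perp_mem x hx)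
    rwa [C.injOn (key hx.2.2.symm).1 hy.2.2.symm ((key hx.2.2.symm).2.trans e.symm)]
  have same : ∀ {x}, Commute x a → χ x = ψ x → θ (χ x) = x := fun hx e =>
    C.injOn (key hx).1 hx ((key hx).2.trans e)
  rcases S.rig_pt (φ := fun x => θ (χ x)) ha hφ (same (Commute.refl a) (by rw [C.base, C'.base])) hE hb
    (same hb.2.2.symm hbb) (fun x hx hxb => same hx.2.2.symm (hfix x hx hxb)) with e | e
  · refine Or.inl fun x hx => C.ext S C' ha (fun y hy => ?_) hx
    have := e y hy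
    rw [← (key hy.2.2.symm).2, this]
  · refine Or.inr fun x hx => ?_
    have Cb : Chart D D' a a' (fun y => ψ (b * y * b)) := by
      have h1 := C.transfer S.hyp S'.hyp (a := a) (b := a) (a' := a') (b' := a') b 1
        (conj_eq_of_commute hb.2.2.symm) (by group)
      simpa [S.hyp.inv_eq hb.1] using h1
    refine Cb.ext S C' ha (fun y hy => ?_) hx
    have := e y hy
    rw [← (key hy.2.2.symm).2, this]

/-- There is a chart at suitable members. -/
theorem exists_chart (S : Sys D) (S' : Sys D') {d : G} {d' : G'} (W : Loc24 D d) (W' : Loc24 D' d') :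
    ∃ ψ, Chart D D' d d' ψ := by
  classical
  obtain ⟨π, Q, -⟩ := loc_quo S.hyp W.nc W.zl (S.lev.cent d W.mem)
  obtain ⟨π', Q', -⟩ := loc_quo S'.hyp W'.nc W'.zl (S'.lev.cent d' W'.mem)
  obtain ⟨e, he⟩ := Y342.exists_equiv_classes W.ihyp W.iprim W.type W'.ihyp W'.iprim W'.type
  obtain ⟨hi, hodd⟩ := comm24_facts S.hyp S.prim S.type
  obtain ⟨hi', hodd'⟩ := comm24_facts S'.hyp S'.prim S'.type
  set M := commutator G
  set M' := commutator G'
  let R : G → G' → Prop := fun g g' => Commute g' d' ∧ π' g' = e (π g) ∧ (g' ∈ M' ↔ g ∈ M)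
  have mc : ∀ {x}, Commute x d → x ∈ Subgroup.centralizer ({d} : Set G) := fun hx => mem_cent_one.2 hx
  have mc' : ∀ {x}, Commute x d' → x ∈ Subgroup.centralizer ({d'} : Set G') := fun hx => mem_cent_one.2 hx
  have hd' := W'.mem
  have ex : ∀ g, Commute g d → ∃ g', R g g' := fun g hg => by
    obtain ⟨y, hy, ey⟩ := Q'.surj (e (π g))
    by_cases hpar : y ∈ M' ↔ g ∈ M
    · exact ⟨y, mem_cent_one.1 hy, ey, hpar⟩
    · refine ⟨y * d', (mem_cent_one.1 hy).mul_left (Commute.refl d'), ?_, ?_⟩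
      · rw [Q'.mul _ hy _ (mc' (Commute.refl d')), Q'.zker d' (Or.inr rfl), mul_one, ey]
      · rw [Subgroup.mul_mem_iff_of_index_two hi']
        have := hodd' d' hd'
        tauto
  have uq : ∀ g y y', R g y → R g y' → y = y' := fun g y y' r r' => by
    rcases Q'.ker (y⁻¹ * y') (mem_cent_one.2 (r.1.inv_left.mul_left r'.1))
      (by rw [Q'.mul _ (mc' r.1.inv_left) _ (mc' r'.1), Q'.map_inv (mc' r.1), r.2.1, r'.2.1, inv_mul_cancel])
      with q | q
    · exact inv_mul_eq_one.1 q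
    · exfalso
      refine hodd' d' hd' (Set.mem_singleton_iff.1 q ▸ ?_)
      rw [Subgroup.mul_mem_iff_of_index_two hi', inv_mem_iff, r.2.2, r'.2.2]
  let ψ : G → G' := fun g => if hg : Commute g d then (ex g hg).choose else 1
  have hR : ∀ g, Commute g d → R g (ψ g) := fun g hg => by
    show R g (dite _ _ _)
    rw [dif_pos hg]
    exact (ex g hg).choose_spec
  refine ⟨ψ, ⟨fun x hx y hy => uq _ _ _ (hR _ (hx.mul_left hy)) ⟨(hR x hx).1.mul_left (hR y hy).1, ?_, ?_⟩,
    fun x hx q => ?_, uq d _ _ (hR d (Commute.refl d)) ⟨Commute.refl d', ?_, ?_⟩, fun x hx => ?_, fun y hy => ?_⟩⟩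
  · rw [Q'.mul _ (mc' (hR x hx).1) _ (mc' (hR y hy).1), (hR x hx).2.1, (hR y hy).2.1,
      Q.mul _ (mc hx) _ (mc hy), map_mul]
  · rw [Subgroup.mul_mem_iff_of_index_two hi', Subgroup.mul_mem_iff_of_index_two hi, (hR x hx).2.2,
      (hR y hy).2.2]
  · obtain ⟨-, r1, r2⟩ := hR x hx
    rw [q, Q'.one] at r1
    rw [q] at r2
    rcases Q.ker x (mc hx) (e.injective (r1.symm.trans (map_one e).symm)) with r | r
    · exact r
    · exact absurd (Set.mem_singleton_iff.1 r ▸ r2.1 (one_mem M')) (hodd d W.mem)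
  · rw [Q.zker d (Or.inr rfl), Q'.zker d' (Or.inr rfl), map_one]
  · exact iff_of_false (hodd' d' hd') (hodd d W.mem)
  · obtain ⟨y, hy, ey⟩ := Q'.onto (e (π x)) (he ▸ ⟨π x, Q.mem x hx, rfl⟩)
    rwa [uq x _ y (hR x hx.2.2.symm) ⟨hy.2.2.symm, ey, iff_of_false (hodd' y hy.1) (hodd x hx.1)⟩]
  · obtain ⟨x, hx, ex'⟩ := Q.surj (e.symm (π' y))
    have hx' := mem_cent_one.1 hx
    by_cases hpar : y ∈ M' ↔ x ∈ M
    · exact ⟨x, hx', uq x _ y (hR x hx') ⟨hy, by rw [ex', e.apply_symm_apply], hpar⟩⟩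
    · refine ⟨x * d, hx'.mul_left (Commute.refl d), uq _ _ y (hR _ (hx'.mul_left (Commute.refl d))) ⟨hy, ?_, ?_⟩⟩
      · rw [Q.mul _ hx _ (mc (Commute.refl d)), Q.zker d (Or.inr rfl), mul_one, ex', e.apply_symm_apply]
      · rw [Subgroup.mul_mem_iff_of_index_two hi]
        have := hodd d W.mem
        tauto

end CfsgLib.Spor.Tri.U24
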