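/-
An involution exchanging a commuting pair, matched in two groups of type M(24).
-/
import Cfsg.Agent.Lib.Spor.Tri.M24Unique.Chart

set_option autoImplicit false

namespace CfsgLib.Spor.Tri.U24

open CfsgLib.Spor.Tri CfsgLib.Spor.Tri.Relations CfsgLib.Spor.Tri.Level

variable {G : Type*} [Group G] {D : Set G}

/-- The exchanging element. -/
abbrev sw (d e k : G) : G := k * (d * e) * k

theorem sw_sq (h : Hyp D) {d e k : G} (hd : d ∈ D) (he : e ∈ D) (hk : k ∈ D) (hc : Commute d e) :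
    sw d e k * sw d e k = 1 := by
  calc k * (d * e) * k * (k * (d * e) * k) = k * (d * e) * (k * k) * (d * e) * k := by group
    _ = k * (d * (e * d) * e) * k := by rw [h.mul_self hk]; group
    _ = k * ((d * d) * (e * e)) * k := by rw [← hc.eq]; group
    _ = 1 := by rw [h.mul_self hd, h.mul_self he, mul_one, mul_one, h.mul_self hk]

theorem sw_inv (h : Hyp D) {d e k : G} (hd : d ∈ D) (he : e ∈ D) (hk : k ∈ D) (hc : Commute d e) :
    (sw d e k)⁻¹ = sw d e k := inv_eq_of_mul_eq_one_right (sw_sq h hd he hk hc)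

theorem sw_move (h : Hyp D) {d e k : G} (hd : d ∈ D) (he : e ∈ D) (hk : k ∈ D) (hc : Commute d e)
    (hkd : ¬ Commute k d) (hke : ¬ Commute k e) :
    sw d e k * d * sw d e k = e ∧ sw d e k * e * sw d e k = d := by
  have hsq := sw_sq h hd he hk hc
  have h1 : sw d e k * d * sw d e k = e := by
    calc k * (d * e) * k * d * (k * (d * e) * k) = k * (d * e) * (k * d * k) * (d * e) * k := by group
      _ = k * (d * e) * (d * k * d) * (d * e) * k := by rw [h.braid hk hd hkd]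
      _ = k * (d * (e * d)) * k * (d * d) * e * k := by group
      _ = k * ((d * d) * e) * k * (d * d) * e * k := by rw [← hc.eq]; group
      _ = k * e * k * (e * k) := by rw [h.mul_self hd]; group
      _ = e * k * e * (e * k) := by rw [h.braid hk he hke]
      _ = e * (k * (e * e) * k) := by group
      _ = e := by rw [h.mul_self he, mul_one, h.mul_self hk, mul_one]
  refine ⟨h1, ?_⟩
  calc sw d e k * e * sw d e k = sw d e k * (sw d e k * d * sw d e k) * sw d e k := by rw [h1]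
    _ = (sw d e k * sw d e k) * d * (sw d e k * sw d e k) := by group
    _ = d := by rw [hsq, one_mul, mul_one]

theorem sw_commute {d e k x : G} (h1 : Commute x d) (h2 : Commute x e) (h3 : Commute x k) : Commute x (sw d e k) :=
  (h3.mul_right (h1.mul_right h2)).mul_right h3

theorem chain_commute (h : Hyp D) {a b c : G} (ha : a ∈ D) (hb : b ∈ D) (hc : c ∈ D) (hac : Commute a c)
    (hab : ¬ Commute a b) (hcb : ¬ Commute c b) : Commute (a * b * a) (c * b * c) := by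
  have e1 := h.braid ha hb hab
  have e2 := h.braid hc hb hcb
  show a * b * a * (c * b * c) = c * b * c * (a * b * a)
  calc a * b * a * (c * b * c) = b * a * b * (b * c * b) := by rw [e1, e2]
    _ = b * (a * (b * b) * c) * b := by group
    _ = b * (c * (b * b) * a) * b := by rw [h.mul_self hb, mul_one, mul_one, hac.eq]
    _ = b * c * b * (b * a * b) := by group
    _ = c * b * c * (a * b * a) := by rw [e1, e2]

/-- The exchange does not act as the conjugation by a further common neighbour. -/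
theorem sw_ne (h : Hyp D) {d e k f x : G} (hd : d ∈ D) (he : e ∈ D) (hk : k ∈ D) (hf : f ∈ D) (hx : x ∈ D)
    (hde : Commute d e) (hkd : ¬ Commute k d) (hke : ¬ Commute k e) (hxd : Commute x d) (hxe : Commute x e)
    (hxf : ¬ Commute x f) : sw d e k * x * sw d e k ≠ f * x * f := by
  intro r
  by_cases hxk : Commute x k
  · rw [← (sw_commute hxd hxe hxk).eq, mul_assoc, sw_sq h hd he hk hde, mul_one] at r
    refine hxf ?_
    show x * f = f * x
    calc x * f = f * x * f * f := by rw [← r]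
      _ = f * x := by rw [mul_assoc, h.mul_self hf, mul_one]
  set y := k * x * k
  have hy : y ∈ D := h.conj_mem' hk hx
  have side : ∀ u ∈ D, Commute x u → ¬ Commute k u → ¬ Commute u y := by
    intro u hu hxu hku hc
    refine hku ?_
    rw [show y = x * k * x from h.braid hk hx fun q => hxk q.symm, ← h.commute_conj hx, h.conj_conj hx,
      h.conj_fix hx hxu] at hc
    exact hc.symm
  have c1 := chain_commute h hd hy he hde (side d hd hxd hkd) (side e he hxe hke)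
  have c2 : Commute y (d * (e * y * e) * d) := by
    have := (h.commute_conj hd).2 c1
    rwa [h.conj_conj hd] at this
  have c3 : Commute x (k * (d * (e * y * e) * d) * k) := by
    have := (h.commute_conj hk).2 c2
    rwa [show k * y * k = x by
      show k * (k * x * k) * k = x
      calc k * (k * x * k) * k = (k * k) * x * (k * k) := by group
        _ = x := by rw [h.mul_self hk, one_mul, mul_one]] at this
  have e3 : k * (d * (e * y * e) * d) * k = sw d e k * x * sw d e k := by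
    show k * (d * (e * (k * x * k) * e) * d) * k = k * (d * e) * k * x * (k * (d * e) * k)
    rw [show k * (d * e) * k * x * (k * (d * e) * k) = k * (d * e) * k * x * (k * (e * d) * k) by rw [hde.eq]]
    group
  rw [e3, r, h.braid hf hx fun q => hxf q.symm] at c3
  exact h.third_not_commute hx hf hxf c3

variable [Finite G]

theorem Sys.exists_common (S : Sys D) {d e : G} (hd : d ∈ D) (he : e ∈ perp D d) :
    ∃ c, c ∈ perp D d ∩ perp D e :=
  (Set.ncard_pos (Set.toFinite _)).1 (by rw [S.lev.lam d hd e he]; norm_num)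

theorem Sys.exists_off (S : Sys D) {d e : G} (hd : d ∈ D) (he : e ∈ perp D d) :
    ∃ k ∈ D, ¬ Commute k d ∧ ¬ Commute k e := by
  obtain ⟨c, hc⟩ := S.exists_common hd he
  obtain ⟨k, hk, h1, h2⟩ := S.lev.sep d hd e he c hc
  exact ⟨k, hk.1, h1, h2⟩

/-- Conjugation by an element exchanging a pair, on the centralizer of the pair. -/
theorem autOn_swap (S : Sys D) {a b g : G} (ha : g * a * g⁻¹ = b) (hb : g * b * g⁻¹ = a) :
    AutOn (Subgroup.centralizer ({a, b} : Set G)) (fun x => g * x * g⁻¹) ∧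
      ∀ x ∈ perp D a ∩ perp D b, g * x * g⁻¹ ∈ perp D a ∩ perp D b := by
  refine ⟨⟨fun x hx => ?_, fun x _ y _ => by group, fun x _ e => conj_eq_one_iff.1 e⟩, fun x hx => ?_⟩
  · obtain ⟨h1, h2⟩ := mem_cent_two.1 hx
    refine mem_cent_two.2 ⟨?_, ?_⟩
    · have := (Commute.conj_iff g).2 h2
      rwa [hb] at this
    · have := (Commute.conj_iff g).2 h1
      rwa [ha] at this
  · have e := image_inter_conj S.hyp g a b
    rw [ha, hb, Set.inter_comm] at e
    rw [e]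
    exact ⟨x, hx, rfl⟩

variable {G' : Type*} [Group G'] [Finite G'] {D' : Set G'} {d : G} {d' : G'} {ψ : G → G'}

/-- A chart at a neighbour that agrees on the common neighbours. -/
theorem other_chart (S : Sys D) (S' : Sys D') (hd : d ∈ D) (hd' : d' ∈ D') (C : Chart D D' d d' ψ) {f : G}
    (hf : f ∈ perp D d) : ∃ χ, Chart D D' f (ψ f) χ ∧ χ d = d' ∧ ∀ x ∈ perp D d ∩ perp D f, χ x = ψ x := by
  obtain ⟨θ, hθ⟩ := C.back
  have hf' := C.perp_mem f hf
  obtain ⟨k, hk, hkd, hkf⟩ := S.exists_off hd hf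
  obtain ⟨k', hk', hkd', hkf'⟩ := S'.exists_off hd' hf'
  set τ := sw d f k
  set τ' := sw d' (ψ f) k'
  have hτi : τ⁻¹ = τ := sw_inv S.hyp hd hf.1 hk hf.2.2
  have hτi' : τ'⁻¹ = τ' := sw_inv S'.hyp hd' hf'.1 hk' hf'.2.2
  obtain ⟨m1, m2⟩ := sw_move S.hyp hd hf.1 hk hf.2.2 hkd hkf
  obtain ⟨m1', m2'⟩ := sw_move S'.hyp hd' hf'.1 hk' hf'.2.2 hkd' hkf'
  obtain ⟨a1, a2⟩ := autOn_swap (a := d) (b := f) (g := τ) S (by rwa [hτi]) (by rwa [hτi])
  obtain ⟨b1, b2⟩ := autOn_swap (a := d') (b := ψ f) (g := τ') S' (by rwa [hτi']) (by rwa [hτi'])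
  set K := Subgroup.centralizer ({d, f} : Set G)
  set E := perp D d ∩ perp D f
  have kd : ∀ {x}, x ∈ K → Commute x d := fun hx => (mem_cent_two.1 hx).1
  have kψ : ∀ {x}, x ∈ K → ψ x ∈ Subgroup.centralizer ({d', ψ f} : Set G') := fun hx =>
    mem_cent_two.2 ⟨C.cent (kd hx), (C.commute (kd hx) hf.2.2.symm).2 (mem_cent_two.1 hx).2⟩
  let α : G → G := fun x => θ (τ' * ψ x * τ'⁻¹)
  have hα : ∀ {x}, x ∈ K → α x ∈ K ∧ ψ (α x) = τ' * ψ x * τ'⁻¹ := by
    intro x hx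
    have h1 := mem_cent_two.1 (b1.1 _ (kψ hx))
    obtain ⟨q1, q2⟩ := hθ (τ' * ψ x * τ'⁻¹) h1.1
    refine ⟨mem_cent_two.2 ⟨q1, (C.commute q1 hf.2.2.symm).1 ?_⟩, q2⟩
    show Commute (ψ (θ (τ' * ψ x * τ'⁻¹))) (ψ f)
    rw [q2]
    exact h1.2
  have hαA : AutOn K α := by
    refine ⟨fun x hx => (hα hx).1, fun x hx y hy => ?_, fun x hx e => ?_⟩
    · refine C.injOn (kd (hα (mul_mem hx hy)).1) ((kd (hα hx).1).mul_left (kd (hα hy).1)) ?_
      rw [(hα (mul_mem hx hy)).2, C.mul _ (kd (hα hx).1) _ (kd (hα hy).1), (hα hx).2, (hα hy).2,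
        C.mul x (kd hx) y (kd hy)]
      group
    · have := (hα hx).2
      rw [e, C.map_one] at this
      exact C.inj x (kd hx) (conj_eq_one_iff.1 this.symm)
  have hdK : d ∈ K := mem_cent_two.2 ⟨Commute.refl d, hf.2.2⟩
  have hfK : f ∈ K := mem_cent_two.2 ⟨hf.2.2.symm, Commute.refl f⟩
  have hαs : α d = f ∧ α f = d :=
    ⟨C.injOn (kd (hα hdK).1) hf.2.2.symm (by rw [(hα hdK).2, C.base, hτi', m1']),
      C.injOn (kd (hα hfK).1) (Commute.refl d) (by rw [(hα hfK).2, C.base, hτi', m2'])⟩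
  have hE : ∀ {x}, x ∈ E → x ∈ K := fun hx => mem_cent_two.2 ⟨hx.1.2.2.symm, hx.2.2.2.symm⟩
  have hE' : ∀ {x}, x ∈ E → ψ x ∈ perp D' d' ∩ perp D' (ψ f) := fun {x} hx =>
    ⟨C.perp_mem x hx.1, (C.perp_iff hf hx.1).2 hx.2⟩
  have hαE : ∀ x ∈ E, α x ∈ E := fun x hx => by
    obtain ⟨y, hy, e⟩ := C.perp_surj S S' hd hd' (b2 _ (hE' hx)).1
    have e2 : α x = y := C.injOn (kd (hα (hE hx)).1) hy.2.2.symm ((hα (hE hx)).2.trans e.symm)
    rw [e2]
    refine ⟨hy, (C.perp_iff hf hy).1 ?_⟩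
    rw [e]
    exact (b2 _ (hE' hx)).2
  obtain ⟨c, hc, hce⟩ := S.out_pair hd hf a1 hαA ⟨by rwa [hτi], by rwa [hτi]⟩ hαs a2 hαE
    (by
      rintro ⟨c, hc, e⟩
      refine S.no_swap (g := c⁻¹ * τ) hd hf ?_ ?_ fun x hx => ?_
      · rw [show c⁻¹ * τ * d * (c⁻¹ * τ)⁻¹ = c⁻¹ * (τ * d * τ⁻¹) * c⁻¹⁻¹ by group, hτi, m1]
        exact conj_eq_of_commute (mem_cent_two.1 hc).2.inv_left
      · rw [show c⁻¹ * τ * f * (c⁻¹ * τ)⁻¹ = c⁻¹ * (τ * f * τ⁻¹) * c⁻¹⁻¹ by group, hτi, m2]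
        exact conj_eq_of_commute (mem_cent_two.1 hc).1.inv_left
      · have h1 : τ * x * τ⁻¹ = c * x * c⁻¹ := e x hx
        rw [show c⁻¹ * τ * x * (c⁻¹ * τ)⁻¹ = c⁻¹ * (τ * x * τ⁻¹) * c by group, h1]
        group)
    (by
      rintro ⟨c, hc, e⟩
      refine S'.no_swap (g := (ψ c)⁻¹ * τ') hd' hf' ?_ ?_ fun y hy => ?_
      · rw [show (ψ c)⁻¹ * τ' * d' * ((ψ c)⁻¹ * τ')⁻¹ = (ψ c)⁻¹ * (τ' * d' * τ'⁻¹) * (ψ c)⁻¹⁻¹ by group, hτi', m1']
        exact conj_eq_of_commute (mem_cent_two.1 (kψ hc)).2.inv_left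
      · rw [show (ψ c)⁻¹ * τ' * ψ f * ((ψ c)⁻¹ * τ')⁻¹ = (ψ c)⁻¹ * (τ' * ψ f * τ'⁻¹) * (ψ c)⁻¹⁻¹ by group, hτi',
          m2']
        exact conj_eq_of_commute (mem_cent_two.1 (kψ hc)).1.inv_left
      · obtain ⟨x, hx, rfl⟩ := C.perp_surj S S' hd hd' hy.1
        have hxE : x ∈ E := ⟨hx, (C.perp_iff hf hx).1 hy.2⟩
        have h1 := (hα (hE hxE)).2
        rw [e x hxE, C.map_conj (kd hc) hx.2.2.symm] at h1
        rw [show (ψ c)⁻¹ * τ' * ψ x * ((ψ c)⁻¹ * τ')⁻¹ = (ψ c)⁻¹ * (τ' * ψ x * τ'⁻¹) * ψ c by group, ← h1]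
        group)
  have hc' := mem_cent_two.1 (kψ hc)
  have ht : (ψ c * τ') * d' * (ψ c * τ')⁻¹ = ψ f := by
    rw [show (ψ c * τ') * d' * (ψ c * τ')⁻¹ = ψ c * (τ' * d' * τ'⁻¹) * (ψ c)⁻¹ by group, hτi', m1']
    exact conj_eq_of_commute hc'.2
  refine ⟨_, C.transfer S.hyp S'.hyp τ (ψ c * τ') (by rwa [hτi]) ht, ?_, fun x hx => ?_⟩
  · show ψ c * τ' * ψ (τ⁻¹ * d * τ) * (ψ c * τ')⁻¹ = d'
    rw [hτi, m1, show ψ c * τ' * ψ f * (ψ c * τ')⁻¹ = ψ c * (τ' * ψ f * τ'⁻¹) * (ψ c)⁻¹ by group, hτi', m2']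
    exact conj_eq_of_commute hc'.1
  · show ψ c * τ' * ψ (τ⁻¹ * x * τ) * (ψ c * τ')⁻¹ = ψ x
    have hy : τ⁻¹ * x * τ ∈ E := by
      have := a2 x hx
      rwa [hτi] at this ⊢
    have h1 : τ * (τ⁻¹ * x * τ) * τ⁻¹ = c * α (τ⁻¹ * x * τ) * c⁻¹ := hce _ hy
    rw [show τ * (τ⁻¹ * x * τ) * τ⁻¹ = x by group] at h1
    conv_rhs => rw [h1]
    rw [C.map_conj (kd hc) (kd (hα (hE hy)).1), (hα (hE hy)).2]
    group

/-- The exchange matched through the chart at a third member agrees with the first chart. -/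
theorem swap_agree (S : Sys D) (S' : Sys D') (hd : d ∈ D) (hd' : d' ∈ D') (C : Chart D D' d d' ψ) {e f k : G}
    (he : e ∈ perp D d) (hf : f ∈ perp D d ∩ perp D e) (hk : k ∈ perp D f) (hkd : ¬ Commute k d)
    (hke : ¬ Commute k e) {χ : G → G'} (C' : Chart D D' f (ψ f) χ) (hχd : χ d = d')
    (hag : ∀ x ∈ perp D d ∩ perp D f, χ x = ψ x) :
    χ (sw d e k) * χ (sw d e k) = 1 ∧ χ (sw d e k) * d' * χ (sw d e k) = ψ e ∧
      χ (sw d e k) * ψ e * χ (sw d e k) = d' ∧ Commute (χ (sw d e k)) (ψ f) ∧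
      ∀ g ∈ Subgroup.centralizer ({d, e} : Set G),
        χ (sw d e k) * ψ g * χ (sw d e k) = ψ (sw d e k * g * sw d e k) := by
  obtain ⟨θ, hθ⟩ := C.back
  set σ := sw d e k
  set σ' := χ σ
  have h := S.hyp
  have hsq : σ * σ = 1 := sw_sq h hd he.1 hk.1 he.2.2
  have hinv : σ⁻¹ = σ := inv_eq_of_mul_eq_one_right hsq
  obtain ⟨m1, m2⟩ := sw_move h hd he.1 hk.1 he.2.2 hkd hke
  have cdf : Commute d f := hf.1.2.2
  have cef : Commute e f := hf.2.2.2
  have ckf : Commute k f := hk.2.2.symm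
  have csf : Commute σ f := (sw_commute cdf.symm cef.symm ckf.symm).symm
  have he' := hag e ⟨he, perp_symm he.1 hf.2⟩
  have hsq' : σ' * σ' = 1 := by rw [← C'.mul σ csf σ csf, hsq, C'.map_one]
  have hinv' : σ'⁻¹ = σ' := inv_eq_of_mul_eq_one_right hsq'
  have mv : ∀ x, Commute x f → χ (σ * x * σ) = σ' * χ x * σ' := fun x hx => by
    rw [C'.mul _ (csf.mul_left hx) σ csf, C'.mul σ csf x hx]
  have r1 : σ' * d' * σ' = ψ e := by rw [← hχd, ← mv d cdf, m1, he']
  have r2 : σ' * ψ e * σ' = d' := by rw [← he', ← mv e cef, m2, hχd]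
  refine ⟨hsq', r1, r2, C'.cent csf, ?_⟩
  set K := Subgroup.centralizer ({d, e} : Set G)
  set E := perp D d ∩ perp D e
  obtain ⟨a1, a2⟩ := autOn_swap (a := d) (b := e) (g := σ) S (by rwa [hinv]) (by rwa [hinv])
  have kd : ∀ {x}, x ∈ K → Commute x d := fun hx => (mem_cent_two.1 hx).1
  have hσK : ∀ {x}, x ∈ K → σ * x * σ ∈ K := fun {x} hx => by simpa [hinv] using a1.1 x hx
  have hσE : ∀ {x}, x ∈ E → σ * x * σ ∈ E := fun {x} hx => by
    have := a2 x hx
    rwa [hinv] at this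
  have kσ : ∀ {x}, x ∈ K → Commute (σ' * ψ (σ * x * σ) * σ') d' := by
    intro x hx
    have h1 : Commute (ψ (σ * x * σ)) (ψ e) := (C.commute (kd (hσK hx)) he.2.2.symm).2 (mem_cent_two.1 (hσK hx)).2
    have := (Commute.conj_iff σ').2 h1
    rwa [hinv', r2] at this
  let γ : G → G := fun x => θ (σ' * ψ (σ * x * σ) * σ')
  have hγ : ∀ {x}, x ∈ K → γ x ∈ K ∧ ψ (γ x) = σ' * ψ (σ * x * σ) * σ' := by
    intro x hx
    obtain ⟨q1, q2⟩ := hθ _ (kσ hx)
    refine ⟨mem_cent_two.2 ⟨q1, (C.commute q1 he.2.2.symm).1 ?_⟩, q2⟩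
    show Commute (ψ (θ (σ' * ψ (σ * x * σ) * σ'))) (ψ e)
    rw [q2]
    have := (Commute.conj_iff σ').2 (C.cent (kd (hσK hx)))
    rwa [hinv', r1] at this
  have hγA : AutOn K γ := by
    refine ⟨fun x hx => (hγ hx).1, fun x hx y hy => ?_, fun x hx e0 => ?_⟩
    · refine C.injOn (kd (hγ (mul_mem hx hy)).1) ((kd (hγ hx).1).mul_left (kd (hγ hy).1)) ?_
      rw [(hγ (mul_mem hx hy)).2, C.mul _ (kd (hγ hx).1) _ (kd (hγ hy).1), (hγ hx).2, (hγ hy).2,
        show σ * (x * y) * σ = σ * x * σ * (σ * y * σ) by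
          calc σ * (x * y) * σ = σ * x * 1 * y * σ := by group
            _ = σ * x * (σ * σ) * y * σ := by rw [hsq]
            _ = _ := by group,
        C.mul _ (kd (hσK hx)) _ (kd (hσK hy))]
      calc σ' * (ψ (σ * x * σ) * ψ (σ * y * σ)) * σ' = σ' * ψ (σ * x * σ) * 1 * ψ (σ * y * σ) * σ' := by group
        _ = σ' * ψ (σ * x * σ) * (σ' * σ') * ψ (σ * y * σ) * σ' := by rw [hsq']
        _ = _ := by group
    · have := (hγ hx).2
      rw [e0, C.map_one] at this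
      have h2 := C.inj _ (kd (hσK hx)) (conj_eq_one_iff.1 (by rw [hinv']; exact this.symm : σ' * _ * σ'⁻¹ = 1))
      exact conj_eq_one_iff.1 (by rw [hinv]; exact h2 : σ * x * σ⁻¹ = 1)
  have hdK : d ∈ K := mem_cent_two.2 ⟨Commute.refl d, he.2.2⟩
  have heK : e ∈ K := mem_cent_two.2 ⟨he.2.2.symm, Commute.refl e⟩
  have hγd : γ d = d := C.injOn (kd (hγ hdK).1) (Commute.refl d) (by rw [(hγ hdK).2, m1, r2, C.base])
  have hγe : γ e = e := C.injOn (kd (hγ heK).1) (kd heK) (by rw [(hγ heK).2, m2, C.base, r1])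
  have hE : ∀ {x}, x ∈ E → x ∈ K := fun hx => mem_cent_two.2 ⟨hx.1.2.2.symm, hx.2.2.2.symm⟩
  have hγE : ∀ x ∈ E, γ x ∈ E := by
    intro x hx
    have hm : ψ (σ * x * σ) ∈ perp D' d' ∩ perp D' (ψ e) :=
      ⟨C.perp_mem _ (hσE hx).1, (C.perp_iff he (hσE hx).1).2 (hσE hx).2⟩
    have him := (autOn_swap (a := d') (b := ψ e) (g := σ') S' (by rwa [hinv']) (by rwa [hinv'])).2 _ hm
    rw [hinv'] at him
    obtain ⟨y, hy, ey⟩ := C.perp_surj S S' hd hd' him.1
    have e2 : γ x = y := C.injOn (kd (hγ (hE hx)).1) hy.2.2.symm ((hγ (hE hx)).2.trans ey.symm)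
    rw [e2]
    refine ⟨hy, (C.perp_iff he hy).1 ?_⟩
    rw [ey]
    exact him.2
  have same : ∀ {x}, x ∈ perp D d → x ∈ perp D e → Commute x f → χ x = ψ x →
      χ (σ * x * σ) = ψ (σ * x * σ) → γ x = x := by
    intro x hx1 hx2 hxf e1 e2
    refine C.injOn (kd (hγ (hE ⟨hx1, hx2⟩)).1) hx1.2.2.symm ?_
    rw [(hγ (hE ⟨hx1, hx2⟩)).2, ← e2, mv x hxf, e1]
    calc σ' * (σ' * ψ x * σ') * σ' = (σ' * σ') * ψ x * (σ' * σ') := by group
      _ = ψ x := by rw [hsq', one_mul, mul_one]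
  have hσf : σ * f * σ = f := by rw [csf.eq, mul_assoc, hsq, mul_one]
  have hγf : γ f = f := same hf.1 hf.2 (Commute.refl f) C'.base (by rw [hσf, C'.base])
  have hfix : ∀ x ∈ E, x ∈ perp D f → γ x = x := fun x hx hxf => by
    refine same hx.1 hx.2 hxf.2.2.symm (hag x ⟨hx.1, hxf⟩) (hag _ ⟨(hσE hx).1, (hσE hx).1.1, fun r => hxf.2.1 ?_, ?_⟩)
    · calc x = σ * (σ * x * σ) * σ := by
            calc x = (σ * σ) * x * (σ * σ) := by rw [hsq, one_mul, mul_one]
              _ = _ := by group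
        _ = f := by rw [r, hσf]
    · have := (Commute.conj_iff σ).2 hxf.2.2
      rwa [hinv, hσf] at this
  rcases S.rig_pair hd he hγA hγd hγe hγE hf hγf hfix with r | r
  · intro g hg
    have hm := S.pair_gen hd he hg
    suffices key : ∀ y ∈ Subgroup.closure (E ∪ {1, d, e, d * e}), y ∈ K ∧ γ y = y by
      have e1 := (hγ (hσK hg)).2
      rw [(key _ (S.pair_gen hd he (hσK hg))).2, show σ * (σ * g * σ) * σ = (σ * σ) * g * (σ * σ) by group, hsq,
        one_mul, mul_one] at e1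
      exact e1.symm
    intro y hy
    induction hy using Subgroup.closure_induction with
    | mem y hy =>
      rcases hy with hy | rfl | rfl | rfl | rfl
      · exact ⟨hE hy, r y hy⟩
      · exact ⟨one_mem _, hγA.map_one⟩
      · exact ⟨hdK, hγd⟩
      · exact ⟨heK, hγe⟩
      · exact ⟨mul_mem hdK heK, by rw [hγA.2.1 d hdK e heK, hγd, hγe]⟩
    | one => exact ⟨one_mem _, hγA.map_one⟩
    | mul y z _ _ hy hz => exact ⟨mul_mem hy.1 hz.1, by rw [hγA.2.1 y hy.1 z hz.1, hy.2, hz.2]⟩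
    | inv y _ hy => exact ⟨inv_mem hy.1, by rw [hγA.map_inv hy.1, hy.2]⟩
  · exfalso
    have hf' := C.perp_mem f hf.1
    have hef' : ψ f ∈ perp D' (ψ e) := (C.perp_iff he hf.1).2 hf.2
    have he2 := C.perp_mem e he
    have hk' := C'.perp_mem k hk
    have nkd : ¬ Commute (χ k) d' := fun q => hkd ((C'.commute ckf cdf).1 (by rwa [hχd]))
    have nke : ¬ Commute (χ k) (ψ e) := fun q => hke ((C'.commute ckf cef).1 (by rwa [he']))
    obtain ⟨t', ht', htf⟩ : ∃ t' ∈ perp D' d' ∩ perp D' (χ k) ∩ perp D' (ψ e), ¬ Commute t' (ψ f) := by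
      by_contra hcon
      push Not at hcon
      have hsub : perp D' d' ∩ perp D' (χ k) ∩ perp D' (ψ e) ⊆
          insert (ψ f) (perp D' d' ∩ perp D' (χ k) ∩ perp D' (ψ f)) := fun t ht => by
        by_cases q : t = ψ f
        · exact Or.inl q
        · exact Or.inr ⟨ht.1, ht.1.1.1, q, (hcon t ht).symm⟩
      have := (Set.ncard_le_ncard hsub (Set.toFinite _)).trans (Set.ncard_insert_le _ _)
      rw [S'.card_triple hd' hk'.1 (fun q => nkd q.symm) he2 fun q => nke q.2.2,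
        S'.deg_common hd' hk'.1 (fun q => nkd q.symm) ⟨hf', perp_symm hf'.1 hk'⟩] at this
      omega
    obtain ⟨t, ht, rfl⟩ := C.perp_surj S S' hd hd' ht'.1.1
    have htE : t ∈ E := ⟨ht, (C.perp_iff he ht).1 ht'.2⟩
    have htf' : ¬ Commute t f := fun q => htf ((C.commute ht.2.2.symm hf.1.2.2.symm).2 q)
    have hfix' : σ' * ψ t * σ' = ψ t := by
      have e1 : σ' = sw d' (ψ e) (χ k) := by
        show χ (k * (d * e) * k) = _
        rw [C'.mul _ (ckf.mul_left (cdf.mul_left cef)) k ckf, C'.mul k ckf _ (cdf.mul_left cef), C'.mul d cdf e cef,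
          hχd, he']
      rw [e1, ← (sw_commute ht'.1.1.2.2.symm ht'.2.2.2.symm ht'.1.2.2.2.symm).eq, mul_assoc, ← e1, hsq', mul_one]
    have e2 := (hγ (hE htE)).2
    rw [r t htE] at e2
    have e3 : ψ (σ * t * σ) = σ' * ψ (f * t * f) * σ' := by
      rw [e2]
      calc ψ (σ * t * σ) = (σ' * σ') * ψ (σ * t * σ) * (σ' * σ') := by rw [hsq', one_mul, mul_one]
        _ = _ := by group
    have csf' : Commute σ' (ψ f) := C'.cent csf
    have e4 : σ' * ψ (f * t * f) * σ' = ψ (f * t * f) := by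
      rw [C.mul _ (hf.1.2.2.symm.mul_left ht.2.2.symm) f hf.1.2.2.symm, C.mul f hf.1.2.2.symm t ht.2.2.symm]
      calc σ' * (ψ f * ψ t * ψ f) * σ' = (σ' * ψ f) * ψ t * (ψ f * σ') := by group
        _ = (ψ f * σ') * ψ t * (σ' * ψ f) := by rw [csf'.eq]
        _ = ψ f * (σ' * ψ t * σ') * ψ f := by group
        _ = _ := by rw [hfix']
    refine sw_ne h hd he.1 hk.1 hf.1.1 ht.1 he.2.2 hkd hke ht.2.2.symm htE.2.2.2.symm htf' ?_
    exact C.injOn (kd (hσK (hE htE))) ((hf.1.2.2.symm.mul_left ht.2.2.symm).mul_left hf.1.2.2.symm) (e3.trans e4)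

end CfsgLib.Spor.Tri.U24
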