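/-
Uniqueness of the groups of type M(24): the charts along the commuting graph fit into one map of classes.
-/
import Cfsg.Agent.Lib.Spor.Tri.M24Unique.Swap

set_option autoImplicit false

namespace CfsgLib.Spor.Tri.U24

open CfsgLib.Spor.Tri CfsgLib.Spor.Tri.Relations CfsgLib.Spor.Tri.Level

theorem Chart.congr {G G' : Type*} [Group G] [Group G'] {D : Set G} {D' : Set G'} {a : G} {a' : G'}
    {ψ χ : G → G'} (C : Chart D D' a a' ψ) (h : ∀ y, Commute y a → χ y = ψ y) : Chart D D' a a' χ :=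
  ⟨fun x hx y hy => by rw [h _ (hx.mul_left hy), h x hx, h y hy, C.mul x hx y hy],
    fun x hx e => C.inj x hx (by rwa [← h x hx]), by rw [h a (Commute.refl a), C.base],
    fun x hx => by rw [h x hx.2.2.symm]; exact C.perp_mem x hx,
    fun y hy => (C.surj y hy).imp fun x hx => ⟨hx.1, (h x hx.1).trans hx.2⟩⟩

variable {G G' : Type*} [Group G] [Group G'] [Finite G] [Finite G'] {D : Set G} {D' : Set G'}

/-- A chart together with a matched exchange of `d` with a neighbour. -/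
structure Glue (D : Set G) (D' : Set G') (d e : G) (d' : G') (ψ : G → G') (σ : G) (σ' : G') : Prop where
  S : Sys D
  S' : Sys D'
  hd : d ∈ D
  hd' : d' ∈ D'
  C : Chart D D' d d' ψ
  he : e ∈ perp D d
  sq : σ * σ = 1
  sq' : σ' * σ' = 1
  mv : σ * d * σ = e
  mv2 : σ * e * σ = d
  mv' : σ' * d' * σ' = ψ e
  mv2' : σ' * ψ e * σ' = d'
  agree : ∀ g ∈ Subgroup.centralizer ({d, e} : Set G), σ' * ψ g * σ' = ψ (σ * g * σ)

/-- The chart along an element of the centralizer. -/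
def along (ψ : G → G') (σ : G) (σ' : G') (h y : G) : G' := ψ h * σ' * ψ (σ * h⁻¹ * y * h * σ) * σ' * (ψ h)⁻¹

/-- The chart at a neighbour of `d`. -/
noncomputable def cc (D : Set G) (d e : G) (ψ : G → G') (σ : G) (σ' : G') (x y : G) : G' :=
  letI := Classical.propDecidable (∃ g : G, Commute g d ∧ g * e * g⁻¹ = x)
  if h : ∃ g : G, Commute g d ∧ g * e * g⁻¹ = x then along ψ σ σ' h.choose y else 1

variable {d e : G} {d' : G'} {ψ : G → G'} {σ : G} {σ' : G'}

theorem conj_twice {H : Type*} [Group H] {s : H} (hs : s * s = 1) (x : H) : s * (s * x * s) * s = x := by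
  calc s * (s * x * s) * s = (s * s) * x * (s * s) := by group
    _ = x := by rw [hs, one_mul, mul_one]

theorem conj_mulTwice {H : Type*} [Group H] {s : H} (hs : s * s = 1) (x y : H) :
    s * (x * y) * s = (s * x * s) * (s * y * s) := by
  calc s * (x * y) * s = s * x * 1 * y * s := by group
    _ = s * x * (s * s) * y * s := by rw [hs]
    _ = _ := by group

theorem conj_commute {H : Type*} [Group H] {s : H} (hs : s * s = 1) {x y : H} :
    Commute (s * x * s) (s * y * s) ↔ Commute x y := by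
  have := Commute.conj_iff (a := x) (b := y) s
  rwa [inv_eq_of_mul_eq_one_right hs] at this

theorem perp_move (h : Hyp D) {s a b x : G} (hs : s * s = 1) (hab : s * a * s = b) (hx : x ∈ perp D a) :
    s * x * s ∈ perp D b := by
  have e := perp_conj h s a
  rw [inv_eq_of_mul_eq_one_right hs, hab] at e
  rw [e]
  exact ⟨x, hx, rfl⟩

variable (K : Glue D D' d e d' ψ σ σ')
include K

theorem Glue.along_chart {x h : G} (hh : Commute h d) (hx : h * e * h⁻¹ = x) :
    Chart D D' x (ψ x) (along ψ σ σ' h) := by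
  have i := inv_eq_of_mul_eq_one_right K.sq
  have i' := inv_eq_of_mul_eq_one_right K.sq'
  refine (K.C.transfer K.S.hyp K.S'.hyp (h * σ) (ψ h * σ') ?_ ?_).congr fun y _ => ?_
  · rw [show h * σ * d * (h * σ)⁻¹ = h * (σ * d * σ⁻¹) * h⁻¹ by group, i, K.mv, hx]
  · rw [show ψ h * σ' * d' * (ψ h * σ')⁻¹ = ψ h * (σ' * d' * σ'⁻¹) * (ψ h)⁻¹ by group, i', K.mv',
      ← K.C.map_conj hh K.he.2.2.symm, hx]
  · show along ψ σ σ' h y = ψ h * σ' * ψ ((h * σ)⁻¹ * y * (h * σ)) * (ψ h * σ')⁻¹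
    simp only [along, mul_inv_rev, i, i', mul_assoc]

theorem Glue.along_eq {x h h0 y : G} (hh : Commute h d) (hh0 : Commute h0 d) (hx : h * e * h⁻¹ = x)
    (hx0 : h0 * e * h0⁻¹ = x) (hy : Commute y x) : along ψ σ σ' h0 y = along ψ σ σ' h y := by
  have i := inv_eq_of_mul_eq_one_right K.sq
  set c := h0⁻¹ * h
  have hcd : Commute c d := hh0.inv_left.mul_left hh
  have hce : Commute c e := (fixes_of_same hx0 hx).symm
  have hcK : c ∈ Subgroup.centralizer ({d, e} : Set G) := mem_cent_two.2 ⟨hcd, hce⟩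
  have hs : Commute (σ * c * σ) d := by
    have := (conj_commute K.sq).2 hce
    rwa [K.mv2] at this
  set y0 := σ * h⁻¹ * y * h * σ
  have hy0 : Commute y0 d := by
    have h1 : Commute (h⁻¹ * y * h) e := by
      rw [← Commute.conj_iff h, show h * (h⁻¹ * y * h) * h⁻¹ = y by group, hx]; exact hy
    have := (conj_commute K.sq).2 h1
    rw [K.mv2, show σ * (h⁻¹ * y * h) * σ = y0 by simp only [y0, mul_assoc]] at this
    exact this
  have e1 : σ * h0⁻¹ * y * h0 * σ = σ * c * σ * y0 * (σ * c * σ)⁻¹ := by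
    simp only [y0, c, mul_inv_rev, inv_inv, i]
    calc σ * h0⁻¹ * y * h0 * σ
        = σ * (h0⁻¹ * h) * 1 * h⁻¹ * y * h * 1 * (h⁻¹ * h0) * σ := by group
      _ = σ * (h0⁻¹ * h) * (σ * σ) * h⁻¹ * y * h * (σ * σ) * (h⁻¹ * h0) * σ := by rw [K.sq]
      _ = _ := by group
  show ψ h0 * σ' * ψ (σ * h0⁻¹ * y * h0 * σ) * σ' * (ψ h0)⁻¹ = ψ h * σ' * ψ y0 * σ' * (ψ h)⁻¹
  rw [e1, K.C.map_conj hs hy0, ← K.agree c hcK, show h = h0 * c by simp only [c]; group, K.C.mul h0 hh0 c hcd]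
  calc ψ h0 * σ' * (σ' * ψ c * σ' * ψ y0 * (σ' * ψ c * σ')⁻¹) * σ' * (ψ h0)⁻¹
      = ψ h0 * (σ' * σ') * ψ c * σ' * ψ y0 * σ'⁻¹ * (ψ c)⁻¹ * (σ'⁻¹ * σ') * (ψ h0)⁻¹ := by group
    _ = ψ h0 * ψ c * σ' * ψ y0 * σ' * (ψ h0 * ψ c)⁻¹ := by
      rw [K.sq', inv_eq_of_mul_eq_one_right K.sq', K.sq', mul_inv_rev]
      group

theorem Glue.cc_spec {x h y : G} (hh : Commute h d) (hx : h * e * h⁻¹ = x) (hy : Commute y x) :
    cc D d e ψ σ σ' x y = along ψ σ σ' h y := by
  have H : ∃ g : G, Commute g d ∧ g * e * g⁻¹ = x := ⟨h, hh, hx⟩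
  rw [cc, dif_pos H]
  exact K.along_eq hh H.choose_spec.1 hx H.choose_spec.2 hy

theorem Glue.cc_chart {x : G} (hx : x ∈ perp D d) : Chart D D' x (ψ x) (cc D d e ψ σ σ' x) := by
  obtain ⟨h, hh, e1⟩ := K.S.trans_perp K.hd K.he hx
  exact (K.along_chart hh e1).congr fun y hy => K.cc_spec hh e1 hy

theorem Glue.cc_at {y : G} (hy : Commute y e) : cc D d e ψ σ σ' e y = σ' * ψ (σ * y * σ) * σ' := by
  rw [K.cc_spec (h := 1) (Commute.one_left d) (by group) hy, along, K.C.map_one]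
  simp

theorem Glue.cc_base {x : G} (hx : x ∈ perp D d) {y : G} (hyd : Commute y d) (hy : Commute y x) :
    cc D d e ψ σ σ' x y = ψ y := by
  obtain ⟨h, hh, e1⟩ := K.S.trans_perp K.hd K.he hx
  rw [K.cc_spec hh e1 hy, along]
  set z := h⁻¹ * y * h
  have hz : z ∈ Subgroup.centralizer ({d, e} : Set G) := by
    refine mem_cent_two.2 ⟨(hh.inv_left.mul_left hyd).mul_left hh, ?_⟩
    rw [← Commute.conj_iff h, show h * z * h⁻¹ = y by simp only [z]; group, e1]
    exact hy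
  rw [show σ * h⁻¹ * y * h * σ = σ * z * σ by simp only [z, mul_assoc], ← K.agree z hz,
    show ψ h * σ' * (σ' * ψ z * σ') * σ' * (ψ h)⁻¹ = ψ h * (σ' * (σ' * ψ z * σ') * σ') * (ψ h)⁻¹ by group,
    conj_twice K.sq', ← K.C.map_conj hh (mem_cent_two.1 hz).1,
    show h * z * h⁻¹ = y by simp only [z]; group]

theorem Glue.cc_d {x : G} (hx : x ∈ perp D d) : cc D d e ψ σ σ' x d = d' := by
  rw [K.cc_base hx (Commute.refl d) hx.2.2, K.C.base]

theorem Glue.cc_equiv {g x y : G} (hg : Commute g d) (hx : x ∈ perp D d) (hy : Commute y x) :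
    cc D d e ψ σ σ' (g * x * g⁻¹) (g * y * g⁻¹) = ψ g * cc D d e ψ σ σ' x y * (ψ g)⁻¹ := by
  obtain ⟨h, hh, e1⟩ := K.S.trans_perp K.hd K.he hx
  rw [K.cc_spec hh e1 hy, K.cc_spec (h := g * h) (hg.mul_left hh) (by rw [← e1]; group) ((Commute.conj_iff g).2 hy),
    along, along, K.C.mul g hg h hh,
    show σ * (g * h)⁻¹ * (g * y * g⁻¹) * (g * h) * σ = σ * h⁻¹ * y * h * σ by group]
  group

variable (hT : ∀ f ∈ perp D d ∩ perp D e, ∀ y ∈ perp D e ∩ perp D f,
  cc D d e ψ σ σ' e y = cc D d e ψ σ σ' f y)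
include hT

/-- Charts at adjacent neighbours agree. -/
theorem Glue.tri {p q y : G} (hp : p ∈ perp D d) (hq : q ∈ perp D d) (hpq : q ∈ perp D p)
    (hy : y ∈ perp D p ∩ perp D q) : cc D d e ψ σ σ' p y = cc D d e ψ σ σ' q y := by
  obtain ⟨h, hh, rfl⟩ := K.S.trans_perp K.hd K.he hp
  set f := h⁻¹ * q * h
  have ef : q = h * f * h⁻¹ := by simp only [f]; group
  set y0 := h⁻¹ * y * h
  have ey : y = h * y0 * h⁻¹ := by simp only [y0]; group
  have pull : ∀ {a b : G}, h * b * h⁻¹ ∈ perp D (h * a * h⁻¹) → b ∈ perp D a := by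
    intro a b r
    rw [perp_conj K.S.hyp] at r
    obtain ⟨u, hu, eu⟩ := r
    exact mul_left_cancel (mul_right_cancel eu) ▸ hu
  have hfd : f ∈ perp D d := pull (by rwa [← ef, conj_eq_of_commute hh])
  have hfe : f ∈ perp D e := pull (by rwa [← ef])
  have hye : y0 ∈ perp D e := pull (by rw [← ey]; exact hy.1)
  have hyf : y0 ∈ perp D f := pull (by rw [← ey, ← ef]; exact hy.2)
  rw [ef, ey, K.cc_equiv hh K.he hye.2.2.symm, K.cc_equiv hh hfd hyf.2.2.symm, hT f ⟨hfd, hfe⟩ y0 ⟨hye, hyf⟩]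

/-- The chart value at a distant member does not depend on the route. -/
theorem Glue.indep {b x w : G} (hb : b ∈ D) (hbd : ¬ Commute d b) (hx : x ∈ perp D d ∩ perp D b)
    (hw : w ∈ perp D d ∩ perp D b) : cc D d e ψ σ σ' x b = cc D d e ψ σ σ' w b := by
  classical
  set S0 := perp D d ∩ perp D b with hS0
  set A := {p | Relation.ReflTransGen (fun u v => v ∈ S0 ∧ v ∈ perp D u) x p} with hA
  have hAS : A ⊆ S0 := by
    intro p hp
    induction hp with
    | refl => exact hx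
    | tail _ r _ => exact r.1
  set b' := cc D d e ψ σ σ' x b with hb'
  have hbx : b ∈ perp D x := perp_symm hb hx.2
  have hb'mem : b' ∈ perp D' (ψ x) := (K.cc_chart hx.1).perp_mem b hbx
  have hb'd : ¬ Commute d' b' := fun r => by
    rw [← K.cc_d hx.1] at r
    exact hbd (((K.cc_chart hx.1).commute hx.1.2.2 hbx.2.2.symm).1 r)
  have hval : ∀ p ∈ A, cc D d e ψ σ σ' p b = b' := by
    intro p hp
    induction hp with
    | refl => rfl
    | @tail u v hu r ih =>
      rw [← K.tri hT (hAS hu).1 r.1.1 r.2 ⟨perp_symm hb (hAS hu).2, perp_symm hb r.1.2⟩]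
      exact ih
  have hvmem : ∀ p ∈ A, ψ p ∈ perp D' d' ∩ perp D' b' := fun p hp => by
    refine ⟨K.C.perp_mem p (hAS hp).1, ?_⟩
    have h1 := (K.cc_chart (hAS hp).1).perp_mem b (perp_symm hb (hAS hp).2)
    rw [hval p hp] at h1
    exact perp_symm (K.C.perp_mem p (hAS hp).1).1 h1
  -- the image is closed
  have hclosed : ∀ p' ∈ ψ '' A, ∀ q' ∈ perp D' d' ∩ perp D' b', q' ∈ perp D' p' → q' ∈ ψ '' A := by
    rintro _ ⟨p, hp, rfl⟩ q' hq' hqp
    have hst : ∀ q ∈ S0 ∩ perp D p, q ∈ A := fun q hq => Relation.ReflTransGen.tail hp ⟨hq.1, hq.2⟩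
    have himg : ψ '' (S0 ∩ perp D p) = perp D' d' ∩ perp D' b' ∩ perp D' (ψ p) := by
      refine Set.eq_of_subset_of_ncard_le ?_ ?_ (Set.toFinite _)
      · rintro _ ⟨q, hq, rfl⟩
        exact ⟨hvmem q (hst q hq), (K.C.perp_iff (hAS hp).1 hq.1.1).2 hq.2⟩
      · rw [Set.InjOn.ncard_image (fun u hu v hv r => K.C.injOn hu.1.1.2.2.symm hv.1.1.2.2.symm r),
          hS0, K.S.deg_common K.hd hb hbd (hAS hp), K.S'.deg_common K.hd' hb'mem.1 hb'd (hvmem p hp)]
    obtain ⟨q, hq, rfl⟩ : q' ∈ ψ '' (S0 ∩ perp D p) := by rw [himg]; exact ⟨hq', hqp⟩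
    exact ⟨q, hst q hq, rfl⟩
  have hall : ∀ v ∈ S0, ψ v ∈ perp D' d' ∩ perp D' b' := by
    intro v hv
    by_cases hvA : v ∈ A
    · exact hvmem v hvA
    by_contra hcon
    have h2 : ψ v ∉ perp D' b' := fun r => hcon ⟨K.C.perp_mem v hv.1, r⟩
    have hcount := K.S'.count K.hd' hb'mem.1 hb'd (ψ '' A) (by rintro _ ⟨p, hp, rfl⟩; exact hvmem p hp) hclosed
      (K.C.perp_mem v hv.1) h2
    have hpos : 0 < (ψ '' A).ncard :=
      (Set.ncard_pos (Set.toFinite _)).2 ⟨ψ x, x, Relation.ReflTransGen.refl, rfl⟩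
    obtain ⟨p', ⟨p, hp, rfl⟩, hpv⟩ := (Set.ncard_pos (Set.toFinite _)).1
      (show 0 < (ψ '' A ∩ perp D' (ψ v)).ncard by omega)
    exact hvA (Relation.ReflTransGen.tail hp ⟨hv, perp_symm hv.1.1 ((K.C.perp_iff hv.1 (hAS hp).1).1 hpv)⟩)
  obtain ⟨g, hg, hgx⟩ := common_transitive (m := 351) K.S.hyp
    (by rw [K.S.lev.mu d K.hd b hb hbd]; norm_num) (fun p hp => K.S.deg_common K.hd hb hbd hp) hx hw
  have hcl : ∀ g ∈ Subgroup.closure S0, Commute g d ∧ Commute g b ∧ Commute (ψ g) b' := by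
    intro g hg
    induction hg using Subgroup.closure_induction with
    | mem v hv => exact ⟨hv.1.2.2.symm, hv.2.2.2.symm, (hall v hv).2.2.2.symm⟩
    | one => exact ⟨Commute.one_left _, Commute.one_left _, by rw [K.C.map_one]; exact Commute.one_left _⟩
    | mul u v _ _ hu hv =>
      exact ⟨hu.1.mul_left hv.1, hu.2.1.mul_left hv.2.1, by rw [K.C.mul u hu.1 v hv.1]; exact hu.2.2.mul_left hv.2.2⟩
    | inv u _ hu => exact ⟨hu.1.inv_left, hu.2.1.inv_left, by rw [K.C.map_inv hu.1]; exact hu.2.2.inv_left⟩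
  obtain ⟨g1, g2, g3⟩ := hcl g hg
  have h1 := K.cc_equiv g1 hx.1 hx.2.2.2
  rw [hgx, conj_eq_of_commute g2] at h1
  rw [h1, ← hb', g3.eq, mul_inv_cancel_right]

omit hT K

/-- The map of classes. -/
noncomputable def Phi (D : Set G) (d e : G) (d' : G') (ψ : G → G') (σ : G) (σ' : G') (b : G) : G' :=
  letI := Classical.propDecidable
  if b = d then d' else if b ∈ perp D d then ψ b else
    if h : (perp D d ∩ perp D b).Nonempty then cc D d e ψ σ σ' h.choose b else 1

include K hT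

theorem Glue.phi_far {b x : G} (hb : b ∈ D) (hbd : ¬ Commute d b) (hx : x ∈ perp D d ∩ perp D b) :
    Phi D d e d' ψ σ σ' b = cc D d e ψ σ σ' x b := by
  have hN : (perp D d ∩ perp D b).Nonempty := ⟨x, hx⟩
  have h1 : b ≠ d := fun r => hbd (r.symm ▸ Commute.refl d)
  have h2 : b ∉ perp D d := fun r => hbd r.2.2
  rw [Phi, if_neg h1, if_neg h2, dif_pos hN]
  exact K.indep hT hb hbd hN.choose_spec hx

omit K hT in
theorem phi_self : Phi D d e d' ψ σ σ' d = d' := by rw [Phi, if_pos rfl]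

omit K hT in
theorem phi_near {b : G} (hb : b ∈ perp D d) : Phi D d e d' ψ σ σ' b = ψ b := by
  rw [Phi, if_neg hb.2.1, if_pos hb]

theorem Glue.phi_cases {b : G} (hb : b ∈ D) : b = d ∨ b ∈ perp D d ∨
    ¬ Commute d b ∧ ∃ x, x ∈ perp D d ∩ perp D b := by
  by_cases h1 : b = d
  · exact Or.inl h1
  by_cases h2 : Commute d b
  · exact Or.inr (Or.inl ⟨hb, h1, h2⟩)
  · exact Or.inr (Or.inr ⟨h2, (Set.ncard_pos (Set.toFinite _)).1 (by rw [K.S.lev.mu d K.hd b hb h2]; norm_num)⟩)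

theorem Glue.phi_mem {b : G} (hb : b ∈ D) : Phi D d e d' ψ σ σ' b ∈ D' := by
  rcases K.phi_cases hT hb with rfl | h | ⟨h, x, hx⟩
  · rw [phi_self]; exact K.hd'
  · rw [phi_near h]; exact (K.C.perp_mem b h).1
  · rw [K.phi_far hT hb h hx]
    exact ((K.cc_chart hx.1).perp_mem b (perp_symm hb hx.2)).1

theorem Glue.phi_equiv {g b : G} (hg : Commute g d) (hb : b ∈ D) :
    Phi D d e d' ψ σ σ' (g * b * g⁻¹) = ψ g * Phi D d e d' ψ σ σ' b * (ψ g)⁻¹ := by
  rcases K.phi_cases hT hb with rfl | h | ⟨h, x, hx⟩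
  · rw [conj_eq_of_commute hg, phi_self, conj_eq_of_commute (K.C.cent hg)]
  · rw [phi_near h, phi_near (perp_conj_mem K.S.hyp hg h), K.C.map_conj hg h.2.2.symm]
  · have hn : ¬ Commute d (g * b * g⁻¹) := fun r => h (by
      rw [← Commute.conj_iff g, conj_eq_of_commute hg]; exact r)
    have hx' : g * x * g⁻¹ ∈ perp D d ∩ perp D (g * b * g⁻¹) :=
      ⟨perp_conj_mem K.S.hyp hg hx.1, by rw [perp_conj K.S.hyp]; exact ⟨x, hx.2, rfl⟩⟩
    rw [K.phi_far hT hb h hx, K.phi_far hT (K.S.hyp.conj g b hb) hn hx', K.cc_equiv hg hx.1 hx.2.2.2]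

/-- The exchange moves the charts as it should. -/
theorem Glue.cc_swap {x z : G} (hx : x ∈ perp D d ∩ perp D e) (hz : z ∈ perp D (σ * x * σ)) :
    σ' * cc D d e ψ σ σ' x (σ * z * σ) * σ' = cc D d e ψ σ σ' (σ * x * σ) z := by
  have h := K.S.hyp
  set y := σ * x * σ
  have hyd : y ∈ perp D d := perp_move h K.sq K.mv2 hx.2
  have hye : y ∈ perp D e := perp_move h K.sq K.mv hx.1
  have ey : σ * y * σ = x := conj_twice K.sq x
  have hψy : σ' * ψ x * σ' = ψ y := K.agree x (mem_cent_two.2 ⟨hx.1.2.2.symm, hx.2.2.2.symm⟩)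
  have i := inv_eq_of_mul_eq_one_right K.sq
  have i' := inv_eq_of_mul_eq_one_right K.sq'
  have CΨ : Chart D D' y (ψ y) (fun u => σ' * cc D d e ψ σ σ' x (σ * u * σ) * σ') := by
    have := (K.cc_chart hx.1).transfer h K.S'.hyp (b := y) (b' := ψ y) σ σ' (by rw [i]) (by rw [i', hψy])
    simpa only [i, i'] using this
  have near_d : ∀ u ∈ perp D y, Commute u d → σ' * cc D d e ψ σ σ' x (σ * u * σ) * σ' = cc D d e ψ σ σ' y u := by
    intro u hu hud
    have hu1 : Commute (σ * u * σ) e := by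
      have := (conj_commute K.sq).2 hud
      rwa [K.mv] at this
    have hu2 : Commute (σ * u * σ) x := by
      have := (conj_commute K.sq).2 hu.2.2.symm
      rwa [ey] at this
    rw [K.cc_base hyd hud hu.2.2.symm]
    by_cases hue : σ * u * σ = e
    · have : u = d := by rw [← conj_twice K.sq u, hue, K.mv2]
      rw [hue, K.cc_base hx.1 K.he.2.2.symm hx.2.2.2, this, K.C.base, K.mv2']
    have hux : σ * u * σ ∈ perp D x := by
      have := perp_move h K.sq ey hu
      exact this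
    have huP : σ * u * σ ∈ perp D e := ⟨hux.1, hue, hu1.symm⟩
    rw [← K.tri hT K.he hx.1 hx.2 ⟨huP, hux⟩, K.cc_at hu1, conj_twice K.sq', conj_twice K.sq]
  have near_e : ∀ u ∈ perp D y, Commute u e → σ' * cc D d e ψ σ σ' x (σ * u * σ) * σ' = cc D d e ψ σ σ' y u := by
    intro u hu hue
    have hu1 : Commute (σ * u * σ) d := by
      have := (conj_commute K.sq).2 hue
      rwa [K.mv2] at this
    have hu2 : Commute (σ * u * σ) x := by
      have := (conj_commute K.sq).2 hu.2.2.symm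
      rwa [ey] at this
    rw [K.cc_base hx.1 hu1 hu2, ← K.cc_at hue]
    by_cases hue' : u = e
    · rw [hue', K.cc_at (Commute.refl e), K.mv2, K.C.base, K.mv', K.cc_base hyd K.he.2.2.symm hye.2.2]
    exact K.tri hT K.he hyd hye ⟨⟨hu.1, hue', hue.symm⟩, hu⟩
  rcases Chart.rig K.S K.S' (b := e) (K.cc_chart hyd) CΨ hyd.1 (K.C.perp_mem y hyd).1
    (perp_symm K.he.1 hye) (near_e e (perp_symm K.he.1 hye) (Commute.refl e))
    (fun u hu hue => near_e u hu hue.2.2.symm) with r | r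
  · exact r z hz.2.2.symm
  · exfalso
    obtain ⟨u, hu, hue⟩ : ∃ u ∈ perp D d ∩ perp D y, ¬ Commute u e := by
      by_contra hcon
      push Not at hcon
      have hsub : perp D d ∩ perp D y ⊆ insert e (perp D d ∩ perp D y ∩ perp D e) := fun u hu => by
        by_cases q : u = e
        · exact Or.inl q
        · exact Or.inr ⟨hu, hu.1.1, q, (hcon u hu).symm⟩
      have := (Set.ncard_le_ncard hsub (Set.toFinite _)).trans (Set.ncard_insert_le _ _)
      rw [K.S.lev.lam d K.hd y hyd, K.S.lam_local K.hd hyd K.he (perp_symm K.he.1 hye : e ∈ perp D y)] at this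
      omega
    have h1 := r u hu.2.2.2.symm
    rw [near_d u hu.2 hu.1.2.2.symm] at h1
    have hcy : Commute e y := hye.2.2
    have := (K.cc_chart hyd).injOn hu.2.2.2.symm ((hcy.mul_left hu.2.2.2.symm).mul_left hcy) h1
    refine hue ?_
    show u * e = e * u
    calc u * e = e * u * e * e := by rw [← this]
      _ = e * u := by rw [mul_assoc, h.mul_self K.he.1, mul_one]

/-- The map of classes commutes with the exchange. -/
theorem Glue.phi_swap {b : G} (hb : b ∈ D) :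
    Phi D d e d' ψ σ σ' (σ * b * σ) = σ' * Phi D d e d' ψ σ σ' b * σ' := by
  have h := K.S.hyp
  have hb2 : σ * b * σ ∈ D := by simpa [inv_eq_of_mul_eq_one_right K.sq] using h.conj σ b hb
  -- the part near `d` going to the far part
  have key : ∀ b ∈ perp D d, ¬ Commute e b →
      Phi D d e d' ψ σ σ' (σ * b * σ) = σ' * Phi D d e d' ψ σ σ' b * σ' := by
    intro b hb hbe
    have hn : ¬ Commute d (σ * b * σ) := fun r => hbe (by
      have := (conj_commute K.sq).2 r
      rwa [conj_twice K.sq, K.mv] at this)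
    have hm : σ * b * σ ∈ perp D e := perp_move h K.sq K.mv hb
    rw [K.phi_far hT hm.1 hn ⟨K.he, perp_symm K.he.1 hm⟩, K.cc_at hm.2.2.symm, conj_twice K.sq, phi_near hb]
  by_cases hd1 : b = d
  · subst hd1
    rw [K.mv, phi_self, phi_near K.he, K.mv']
  by_cases hbe : b = e
  · subst hbe
    rw [K.mv2, phi_self, phi_near K.he, K.mv2']
  by_cases h1 : Commute d b
  · have hbd : b ∈ perp D d := ⟨hb, hd1, h1⟩
    by_cases h2 : Commute e b
    · have hm : σ * b * σ ∈ perp D d := perp_move h K.sq K.mv2 ⟨hb, hbe, h2⟩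
      rw [phi_near hm, phi_near hbd]
      exact (K.agree b (mem_cent_two.2 ⟨h1.symm, h2.symm⟩)).symm
    · exact key b hbd h2
  by_cases h2 : Commute e b
  · have hm : σ * b * σ ∈ perp D d := perp_move h K.sq K.mv2 ⟨hb, hbe, h2⟩
    have hn : ¬ Commute e (σ * b * σ) := fun r => h1 (by
      have := (conj_commute K.sq).2 r
      rwa [conj_twice K.sq, K.mv2] at this)
    have := key _ hm hn
    rw [conj_twice K.sq] at this
    rw [this, conj_twice K.sq']
  obtain ⟨x, hx⟩ : (perp D d ∩ perp D b ∩ perp D e).Nonempty := (Set.ncard_pos (Set.toFinite _)).1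
    (by rw [K.S.card_triple K.hd hb h1 K.he fun r => h2 r.2.2.symm]; norm_num)
  have hn : ¬ Commute d (σ * b * σ) := fun r => h2 (by
    have := (conj_commute K.sq).2 r
    rwa [conj_twice K.sq, K.mv] at this)
  have hy : σ * x * σ ∈ perp D d ∩ perp D (σ * b * σ) :=
    ⟨perp_move h K.sq K.mv2 hx.2, perp_move h K.sq rfl hx.1.2⟩
  rw [K.phi_far hT hb2 hn hy, K.phi_far hT hb h1 hx.1,
    ← K.cc_swap hT ⟨hx.1.1, hx.2⟩ (perp_symm hb2 hy.2), conj_twice K.sq]

omit K hT in
/-- A subgroup with the centralizer of `d` and an element moving `d` to a neighbour is everything. -/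
theorem top_of_move (S : Sys D) {d e s : G} (hd : d ∈ D) (he : e ∈ perp D d) (hs : s * d * s⁻¹ = e)
    {H : Subgroup G} (hC : ∀ g, Commute g d → g ∈ H) (hsH : s ∈ H) : H = ⊤ := by
  have near : ∀ b ∈ perp D d, ∃ g ∈ H, g * d * g⁻¹ = b := fun b hb => by
    obtain ⟨g, hg, eg⟩ := S.trans_perp hd he hb
    exact ⟨g * s, mul_mem (hC g hg) hsH, by rw [← eg, ← hs]; group⟩
  have all : ∀ b ∈ D, ∃ g ∈ H, g * d * g⁻¹ = b := fun b hb => by
    by_cases hbd : b = d
    · exact ⟨1, one_mem H, by rw [hbd]; group⟩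
    by_cases hc : Commute d b
    · exact near b ⟨hb, hbd, hc⟩
    obtain ⟨x, hx⟩ := (Set.ncard_pos (Set.toFinite _)).1
      (show 0 < (perp D d ∩ perp D b).ncard by rw [S.lev.mu d hd b hb hc]; norm_num)
    obtain ⟨g, hg, eg⟩ := near x hx.1
    have hb' := perp_symm hb hx.2
    rw [← eg, perp_conj S.hyp] at hb'
    obtain ⟨u, hu, eu⟩ := hb'
    obtain ⟨g2, hg2, eg2⟩ := near u hu
    exact ⟨g * g2, mul_mem hg hg2, by rw [← eu, ← eg2]; group⟩
  refine eq_top_iff.2 fun g _ => ?_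
  obtain ⟨k, hk, ek⟩ := all _ (S.hyp.conj g d hd)
  have := mul_mem hk (hC (k⁻¹ * g) (fixes_of_same ek rfl).symm)
  rwa [mul_inv_cancel_left] at this

/-- The isomorphism. -/
theorem Glue.exists_iso : ∃ E : G ≃* G', E '' D = D' := by
  classical
  let P : G → G' → Prop := fun g g' =>
    ∀ b ∈ D, Phi D d e d' ψ σ σ' (g * b * g⁻¹) = g' * Phi D d e d' ψ σ σ' b * g'⁻¹
  have pmul : ∀ {g h : G} {g' h' : G'}, P g g' → P h h' → P (g * h) (g' * h') := by
    intro g h g' h' hg hh b hb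
    rw [show g * h * b * (g * h)⁻¹ = g * (h * b * h⁻¹) * g⁻¹ by group, hg _ (K.S.hyp.conj h b hb), hh b hb]
    group
  have pinv : ∀ {g : G} {g' : G'}, P g g' → P g⁻¹ g'⁻¹ := by
    intro g g' hg b hb
    have := hg _ (K.S.hyp.conj g⁻¹ b hb)
    rw [show g * (g⁻¹ * b * g⁻¹⁻¹) * g⁻¹ = b by group] at this
    rw [this]
    group
  have pone : P 1 1 := fun b _ => by simp
  have pC : ∀ g, Commute g d → P g (ψ g) := fun g hg b hb => K.phi_equiv hT hg hb
  have pσ : P σ σ' := fun b hb => by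
    rw [inv_eq_of_mul_eq_one_right K.sq, inv_eq_of_mul_eq_one_right K.sq']
    exact K.phi_swap hT hb
  let H : Subgroup G :=
    { carrier := {g | ∃ g', P g g'}
      one_mem' := ⟨1, pone⟩
      mul_mem' := fun ⟨a, ha⟩ ⟨b, hb⟩ => ⟨a * b, pmul ha hb⟩
      inv_mem' := fun ⟨a, ha⟩ => ⟨a⁻¹, pinv ha⟩ }
  let H' : Subgroup G' :=
    { carrier := {g' | ∃ g, P g g'}
      one_mem' := ⟨1, pone⟩
      mul_mem' := fun ⟨a, ha⟩ ⟨b, hb⟩ => ⟨a * b, pmul ha hb⟩
      inv_mem' := fun ⟨a, ha⟩ => ⟨a⁻¹, pinv ha⟩ }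
  have hH : H = ⊤ := top_of_move K.S K.hd K.he (s := σ)
    (by rw [inv_eq_of_mul_eq_one_right K.sq, K.mv]) (fun g hg => ⟨ψ g, pC g hg⟩) ⟨σ', pσ⟩
  have hH' : H' = ⊤ := top_of_move K.S' K.hd' (K.C.perp_mem e K.he) (s := σ')
    (by rw [inv_eq_of_mul_eq_one_right K.sq', K.mv'])
    (fun g' hg' => by obtain ⟨g, hg, rfl⟩ := K.C.surj g' hg'; exact ⟨g, pC g hg⟩) ⟨σ, pσ⟩
  have hex : ∀ g, ∃ g', P g g' := fun g => (hH ▸ Subgroup.mem_top g : g ∈ H)
  have himg : ∀ y ∈ D', ∃ b ∈ D, Phi D d e d' ψ σ σ' b = y := fun y hy => by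
    obtain ⟨g', rfl⟩ := K.S'.hyp.transitive d' K.hd' y hy
    obtain ⟨g, hg⟩ : g' ∈ H' := hH' ▸ Subgroup.mem_top g'
    refine ⟨g * d * g⁻¹, K.S.hyp.conj g d K.hd, ?_⟩
    rw [hg d K.hd, phi_self]
  have uniq : ∀ {g : G} {u v : G'}, P g u → P g v → u = v := by
    intro g u v hu hv
    have h1 : v⁻¹ * u ∈ Subgroup.centralizer D' := Subgroup.mem_centralizer_iff.2 fun y hy => by
      obtain ⟨b, hb, rfl⟩ := himg y hy
      have := (hu b hb).symm.trans (hv b hb)
      calc Phi D d e d' ψ σ σ' b * (v⁻¹ * u)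
          = v⁻¹ * (v * Phi D d e d' ψ σ σ' b * v⁻¹) * u := by group
        _ = v⁻¹ * (u * Phi D d e d' ψ σ σ' b * u⁻¹) * u := by rw [this]
        _ = v⁻¹ * u * Phi D d e d' ψ σ σ' b := by group
    rw [← Subgroup.centralizer_closure, K.S'.hyp.gen, Subgroup.coe_top, Subgroup.centralizer_univ, K.S'.lev.center,
      Subgroup.mem_bot] at h1
    exact (inv_mul_eq_one.1 h1).symm
  choose θ hθ using hex
  let Θ : G →* G' :=
    { toFun := θ
      map_one' := uniq (hθ 1) pone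
      map_mul' := fun a b => uniq (hθ _) (pmul (hθ a) (hθ b)) }
  have hsurj : Function.Surjective Θ := fun g' => by
    obtain ⟨g, hg⟩ : g' ∈ H' := hH' ▸ Subgroup.mem_top g'
    exact ⟨g, uniq (hθ g) hg⟩
  have hbij : Function.Bijective Θ := hsurj.bijective_of_nat_card_le
    ((card24 K.S.hyp K.S.prim K.S.type).1.trans (card24 K.S'.hyp K.S'.prim K.S'.type).1.symm).le
  refine ⟨MulEquiv.ofBijective Θ hbij, ?_⟩
  have hd0 : Θ d = d' := by
    rw [← K.C.base]; exact uniq (hθ d) (pC d (Commute.refl d))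
  ext y
  constructor
  · rintro ⟨b, hb, rfl⟩
    obtain ⟨g, rfl⟩ := K.S.hyp.transitive d K.hd b hb
    show Θ (g * d * g⁻¹) ∈ D'
    rw [map_mul, map_mul, map_inv, hd0]
    exact K.S'.hyp.conj _ _ K.hd'
  · intro hy
    obtain ⟨g', rfl⟩ := K.S'.hyp.transitive d' K.hd' y hy
    obtain ⟨g, rfl⟩ := hsurj g'
    refine ⟨g * d * g⁻¹, K.S.hyp.conj g d K.hd, ?_⟩
    show Θ (g * d * g⁻¹) = _
    rw [map_mul, map_mul, map_inv, hd0]

omit K hT

/-- Every chart at `d` extends to matched charts. -/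
theorem exists_glue (S : Sys D) (S' : Sys D') (hd : d ∈ D) (hd' : d' ∈ D') (C : Chart D D' d d' ψ) :
    ∃ (e σ : G) (σ' : G'), Glue D D' d e d' ψ σ σ' ∧
      ∀ f ∈ perp D d ∩ perp D e, ∀ y ∈ perp D e ∩ perp D f, cc D d e ψ σ σ' e y = cc D d e ψ σ σ' f y := by
  have h := S.hyp
  obtain ⟨e, he⟩ : (perp D d).Nonempty :=
    (Set.ncard_pos (Set.toFinite _)).1 (by rw [S.lev.deg d hd]; norm_num)
  obtain ⟨f, hf⟩ := S.exists_common hd he
  obtain ⟨k, hk, hkd, hke⟩ := S.lev.sep d hd e he f hf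
  obtain ⟨χ, C', hχd, hag⟩ := other_chart S S' hd hd' C hf.1
  obtain ⟨q1, q2, q3, q4, q5⟩ := swap_agree S S' hd hd' C he hf hk hkd hke C' hχd hag
  obtain ⟨m1, m2⟩ := sw_move h hd he.1 hk.1 he.2.2 hkd hke
  set σ := sw d e k
  have K : Glue D D' d e d' ψ σ (χ σ) :=
    ⟨S, S', hd, hd', C, he, sw_sq h hd he.1 hk.1 he.2.2, q1, m1, m2, q2, q3, q5⟩
  refine ⟨e, σ, χ σ, K, ?_⟩
  set σ' := χ σ
  have csf : Commute σ f := (sw_commute hf.1.2.2.symm hf.2.2.2.symm hk.2.2).symm
  have hinv := inv_eq_of_mul_eq_one_right K.sq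
  have hinv' := inv_eq_of_mul_eq_one_right K.sq'
  -- an exchange of `e` and `f` fixing `d`
  have hed : d ∈ perp D e := perp_symm hd he
  have hfd : d ∈ perp D f := perp_symm hd hf.1
  obtain ⟨k2, hk2, hk2e, hk2f⟩ := S.lev.sep e he.1 f hf.2 d ⟨hed, hfd⟩
  set g := sw e f k2
  obtain ⟨n1, n2⟩ := sw_move h he.1 hf.1.1 hk2.1 hf.2.2.2 hk2e hk2f
  have gsq : g * g = 1 := sw_sq h he.1 hf.1.1 hk2.1 hf.2.2.2
  have cgd : Commute g d := (sw_commute he.2.2 hf.1.2.2 hk2.2.2).symm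
  have ginv := inv_eq_of_mul_eq_one_right gsq
  set g' := ψ g
  have gsq' : g' * g' = 1 := by rw [← C.mul g cgd g cgd, gsq, C.map_one]
  -- the chart at `f`
  have hfg : g * e * g⁻¹ = f := by rw [ginv]; exact n1
  have hrig : ∀ y, Commute y f → cc D d e ψ σ σ' f y = χ y := by
    rcases Chart.rig S S' (b := d) C' (K.cc_chart hf.1) hf.1.1 (C.perp_mem f hf.1).1 hfd
      (by rw [K.cc_d hf.1, hχd]) (fun x hx hxd => by
        rw [K.cc_base hf.1 hxd.2.2.symm hx.2.2.symm, hag x ⟨hxd, hx⟩]) with r | r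
    · exact r
    exfalso
    have r0 := r σ csf
    rw [K.cc_spec cgd hfg csf, along, ginv] at r0
    set w := σ * g * σ * g * σ
    set z := w * g
    have hw : Commute w d := by
      have e1 : w * d * w⁻¹ = d := by
        simp only [w, mul_inv_rev, hinv, ginv]
        calc σ * g * σ * g * σ * d * (σ * (g * (σ * (g * σ))))
            = σ * (g * (σ * (g * (σ * d * σ) * g) * σ) * g) * σ := by group
          _ = d := by
            rw [m1, n1, show σ * f * σ = f by rw [csf.eq, mul_assoc, K.sq, mul_one], n2, m2]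
      exact mul_inv_eq_iff_eq_mul.1 e1
    have hz : Commute z d ∧ Commute z e := by
      refine ⟨hw.mul_left cgd, mul_inv_eq_iff_eq_mul.1 ?_⟩
      simp only [z, w, mul_inv_rev, hinv, ginv]
      calc σ * g * σ * g * σ * g * e * (g * (σ * (g * (σ * (g * σ)))))
          = σ * (g * (σ * (g * (σ * (g * e * g) * σ) * g) * σ) * g) * σ := by group
        _ = e := by
          rw [n1, show σ * f * σ = f by rw [csf.eq, mul_assoc, K.sq, mul_one], n2, m2,
            show g * d * g = d by rw [cgd.eq, mul_assoc, gsq, mul_one], m1]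
    have hzz : σ * z * σ * z = 1 := by
      simp only [z, w]
      calc σ * (σ * g * σ * g * σ * g) * σ * (σ * g * σ * g * σ * g)
          = (σ * σ) * g * σ * g * σ * g * (σ * σ) * g * σ * g * σ * g := by group
        _ = g * σ * g * σ * (g * g) * σ * g * σ * g := by rw [K.sq]; group
        _ = g * σ * g * (σ * σ) * g * σ * g := by rw [gsq]; group
        _ = g * σ * (g * g) * σ * g := by rw [K.sq]; group
        _ = g * (σ * σ) * g := by rw [gsq]; group
        _ = 1 := by rw [K.sq, mul_one, gsq]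
    have hzK : z ∈ Subgroup.centralizer ({d, e} : Set G) := mem_cent_two.2 hz
    have hs : Commute (σ * z * σ) d := by
      have := (conj_commute K.sq).2 hz.2
      rwa [m2] at this
    have h1 : σ' * ψ z * σ' * ψ z = 1 := by rw [K.agree z hzK, ← C.mul _ hs _ hz.1, hzz, C.map_one]
    have h2 : ψ z = ψ w * g' := C.mul w hw g cgd
    -- the two transpositions inside
    have he' : χ e = ψ e := hag e ⟨he, perp_symm he.1 hf.2⟩
    have c1 : χ (d * σ * d) = d' * σ' * d' := by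
      rw [C'.mul _ (hf.1.2.2.mul_left csf) d hf.1.2.2, C'.mul d hf.1.2.2 σ csf, hχd]
    rw [c1] at r0
    set A := d' * σ' * d' with hA
    set ef := ψ e
    set ff := ψ f
    have n1' : g' * ef * g' = ff := by
      have := C.map_conj cgd he.2.2.symm
      rw [ginv, n1] at this
      rw [show ff = g' * ef * g'⁻¹ from this, inv_eq_of_mul_eq_one_right gsq']
    have n2' : g' * ff * g' = ef := by rw [← n1', conj_twice gsq']
    have nd' : g' * d' * g' = d' := by
      rw [(C.cent cgd).eq, mul_assoc, gsq', mul_one]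
    have sfix : σ' * ff * σ' = ff := by rw [q4.eq, mul_assoc, K.sq', mul_one]
    have ew : ψ w = σ' * (g' * A * g') * σ' := by
      have e0 : g' * (σ' * ψ w * σ') * g' = A := by
        have r1 : g' * σ' * ψ w * σ' * g'⁻¹ = A := r0
        rw [← r1, inv_eq_of_mul_eq_one_right gsq']
        group
      rw [← e0, conj_twice gsq', conj_twice K.sq']
    rw [h2, ew] at h1
    have h3 : g' * ((A * g' * σ') * (A * g' * σ')) * g'⁻¹ = 1 := by
      rw [← h1]
      calc g' * ((A * g' * σ') * (A * g' * σ')) * g'⁻¹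
          = g' * A * g' * σ' * A * g' * σ' * g'⁻¹ := by group
        _ = g' * A * g' * σ' * (g' * g') * A * g' * σ' * g' := by
          rw [gsq', mul_one, inv_eq_of_mul_eq_one_right gsq']
        _ = (σ' * σ') * (g' * A * g') * σ' * g' * 1 * (g' * A * g') * σ' * g' := by rw [K.sq']; group
        _ = (σ' * σ') * (g' * A * g') * σ' * g' * (σ' * σ') * (g' * A * g') * σ' * g' := by rw [K.sq']
        _ = _ := by group
    have h4 := conj_eq_one_iff.1 h3
    have cfe : ef * d' = d' * ef := (C.perp_mem e he).2.2.symm.eq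
    set p := σ' * g' * σ' with hp
    set u := ff * ef with hu
    have psq : p * p = 1 := by
      rw [hp, show σ' * g' * σ' * (σ' * g' * σ') = σ' * g' * (σ' * σ') * g' * σ' by group, K.sq',
        show σ' * g' * 1 * g' * σ' = σ' * (g' * g') * σ' by group, gsq', mul_one, K.sq']
    have pu : p * u * p = d' * ef := by
      rw [hp, show σ' * g' * σ' * u * (σ' * g' * σ') = σ' * (g' * (σ' * u * σ') * g') * σ' by group, hu,
        conj_mulTwice K.sq' ff ef, sfix, q3, conj_mulTwice gsq' ff d', n2', nd', conj_mulTwice K.sq' ef d', q3, q2]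
    have hX : A * g' * σ' = p * u := by
      have hA' : A = σ' * (ef * d') := by
        rw [hA]
        calc d' * σ' * d' = (σ' * σ') * d' * σ' * d' := by rw [K.sq', one_mul]
          _ = σ' * (σ' * d' * σ') * d' := by group
          _ = σ' * (ef * d') := by rw [q2, mul_assoc]
      have hu2 : u = σ' * (g' * (ef * d') * g') * σ' := by
        rw [conj_mulTwice gsq' ef d', n1', nd', conj_mulTwice K.sq' ff d', sfix, q2]
      rw [hA', hu2, hp]
      calc σ' * (ef * d') * g' * σ' = σ' * (g' * g') * (ef * d') * g' * σ' := by rw [gsq', mul_one]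
        _ = σ' * g' * 1 * (g' * (ef * d') * g') * σ' := by group
        _ = σ' * g' * (σ' * σ') * (g' * (ef * d') * g') * σ' := by rw [K.sq']
        _ = _ := by group
    rw [hX] at h4
    have h5 : d' * ef = ef * ff := by
      rw [← pu]
      calc p * u * p = (p * u) * (p * u) * u⁻¹ := by group
        _ = u⁻¹ := by rw [h4, one_mul]
        _ = ef * ff := by
          rw [hu, mul_inv_rev, S'.hyp.inv_eq (C.perp_mem e he).1, S'.hyp.inv_eq (C.perp_mem f hf.1).1]
    rw [← cfe] at h5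
    exact (C.perp_mem f hf.1).2.1 (mul_left_cancel h5).symm
  -- the base triangle
  have base : ∀ y ∈ perp D e ∩ perp D f, cc D d e ψ σ σ' e y = cc D d e ψ σ σ' f y := by
    intro y hy
    rw [K.cc_at hy.1.2.2.symm, hrig y hy.2.2.2.symm]
    have hu : σ * y * σ ∈ perp D d ∩ perp D f :=
      ⟨perp_move h K.sq m2 hy.1, perp_move h K.sq (by rw [csf.eq, mul_assoc, K.sq, mul_one]) hy.2⟩
    rw [← hag _ hu, C'.mul _ (csf.mul_left hy.2.2.2.symm) σ csf, C'.mul σ csf y hy.2.2.2.symm]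
    exact conj_twice K.sq' _
  intro f2 hf2 y hy
  obtain ⟨c, hcd, hce, hcf⟩ := S.trans_pair hd he hf hf2
  have hy0 : c⁻¹ * y * c ∈ perp D e ∩ perp D f := by
    have e0 := image_inter_conj h c e f
    rw [conj_eq_of_commute hce, hcf] at e0
    obtain ⟨u, hu, rfl⟩ := e0 ▸ hy
    rwa [show c⁻¹ * (c * u * c⁻¹) * c = u by group]
  have ey : y = c * (c⁻¹ * y * c) * c⁻¹ := by group
  have e1 := K.cc_equiv hcd he hy0.1.2.2.symm
  have e2 := K.cc_equiv hcd hf.1 hy0.2.2.2.symm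
  rw [conj_eq_of_commute hce] at e1
  rw [hcf] at e2
  rw [ey, e1, e2, base _ hy0]

theorem unique24 {G G' : Type*} [Group G] [Group G'] [Finite G] [Finite G'] {D : Set G} {D' : Set G'}
    (S : Sys D) (S' : Sys D') : ∃ E : G ≃* G', E '' D = D' := by
  obtain ⟨d, W⟩ := local24 S.hyp S.prim S.type
  obtain ⟨d', W'⟩ := local24 S'.hyp S'.prim S'.type
  obtain ⟨ψ, C⟩ := exists_chart S S' W W'
  obtain ⟨e, σ, σ', K, hT⟩ := exists_glue S S' W.mem W'.mem C
  exact K.exists_iso hT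

end CfsgLib.Spor.Tri.U24
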